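import Groth.Agent.S9432
import Groth.Agent.S0504
import Groth.Agent.Hensel.Local
import Mathlib.RingTheory.Flat.FaithfullyFlat.Algebra
import Mathlib.RingTheory.QuasiFinite.Basic

/-!
# Coverings of finite algebras over henselian local rings
-/

set_option autoImplicit false

universe u

open IsLocalRing

namespace Groth.Agent.DualOv79

theorem mem_iff_of_idem {T : Type u} [CommRing T] {e : T} (he : IsIdempotentElem e) (P : Ideal T) [hP : P.IsPrime] :
    e ∈ P ↔ 1 - e ∉ P := by
  constructor
  · intro h h'
    exact hP.ne_top ((Ideal.eq_top_iff_one _).2 (by simpa using P.add_mem h h'))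
  · intro h
    have : e * (1 - e) ∈ P := by rw [mul_sub, mul_one, he.eq, sub_self]; exact P.zero_mem
    exact (hP.mem_or_mem this).resolve_right h

/-- A direct factor of a flat algebra is flat. -/
theorem flat_quotient_one_sub {A T : Type u} [CommRing A] [CommRing T] [Algebra A T] [Module.Flat A T] {e : T}
    (he : IsIdempotentElem e) : Module.Flat A (T ⧸ Ideal.span ({1 - e} : Set T)) := by
  let I : Submodule A T := (Ideal.span ({1 - e} : Set T)).restrictScalars A
  have hle : I ≤ LinearMap.ker (LinearMap.mulLeft A e) := fun x hx => by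
    obtain ⟨a, rfl⟩ := Ideal.mem_span_singleton'.1 (show x ∈ Ideal.span ({1 - e} : Set T) from hx)
    show e * (a * (1 - e)) = 0
    rw [mul_left_comm, mul_sub, mul_one, he.eq, sub_self, mul_zero]
  let i : (T ⧸ Ideal.span ({1 - e} : Set T)) →ₗ[A] T := Submodule.liftQ I _ hle ∘ₗ
    (Submodule.Quotient.restrictScalarsEquiv A (Ideal.span ({1 - e} : Set T))).symm.toLinearMap
  refine Module.Flat.of_retract i (Ideal.Quotient.mkₐ A (Ideal.span ({1 - e} : Set T))).toLinearMap
    (LinearMap.ext fun x => ?_)
  obtain ⟨x, rfl⟩ := Ideal.Quotient.mk_surjective x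
  show Ideal.Quotient.mk _ (e * x) = Ideal.Quotient.mk _ x
  rw [Ideal.Quotient.mk_eq_mk_iff_sub_mem]
  exact Ideal.mem_span_singleton'.2 ⟨-x, by ring⟩

/-- Every covering of a finite algebra over a henselian local ring is dominated by a finite flat covering with one
maximal ideal over each maximal ideal of the base. -/
theorem exists_refinement (R A B : Type u) [CommRing R] [HenselianLocalRing R] [CommRing A] [Algebra R A]
    [Module.Finite R A] [CommRing B] [Algebra A B] [Module.FaithfullyFlat A B] [Algebra.FinitePresentation A B] :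
    ∃ (C : Type u) (_ : CommRing C) (_ : Algebra A C), Module.Finite A C ∧ Module.FaithfullyFlat A C ∧
      Algebra.FinitePresentation A C ∧
      (∀ P Q : Ideal C, P.IsMaximal → Q.IsMaximal →
        P.comap (algebraMap A C) = Q.comap (algebraMap A C) → P = Q) ∧
      Nonempty (B →ₐ[A] C) := by
  classical
  obtain ⟨T, _, _, hqf, hft, hff, hfp, ⟨f⟩⟩ := Groth.Agent.S9432.result A B
  letI : Algebra R T := ((algebraMap A T).comp (algebraMap R A)).toAlgebra
  haveI : IsScalarTower R A T := IsScalarTower.of_algebraMap_eq fun _ => rfl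
  haveI : Algebra.FiniteType R T := Algebra.FiniteType.trans (S := A) inferInstance inferInstance
  haveI : Algebra.QuasiFinite R T := Algebra.QuasiFinite.trans R A T
  obtain ⟨e, he, hfin, hno⟩ := Groth.Agent.S0504.result R T
  let C₀ := T ⧸ Ideal.span ({1 - e} : Set T)
  haveI : Module.Finite A C₀ := Module.Finite.of_restrictScalars_finite R A C₀
  haveI : Algebra.FinitePresentation A C₀ :=
    Algebra.FinitePresentation.quotient ⟨{1 - e}, by simp⟩
  haveI : Module.Flat A C₀ := flat_quotient_one_sub he
  haveI : Algebra.IsIntegral R A := inferInstance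
  have hover : ∀ n : Ideal A, n.IsMaximal → ∃ M : Ideal C₀, M.IsMaximal ∧ M.comap (algebraMap A C₀) = n := by
    intro n hn
    obtain ⟨Q, hQp, hQ⟩ := Ideal.exists_isPrime_liesOver_of_faithfullyFlat (B := T) n
    have hQR : Q.comap (algebraMap R T) = maximalIdeal R := by
      have h1 : (n.comap (algebraMap R A)).IsMaximal := Ideal.isMaximal_comap_of_isIntegral_of_isMaximal n
      rw [← IsLocalRing.eq_maximalIdeal h1, hQ.over, Ideal.under, Ideal.comap_comap]
      rfl
    have he1 : 1 - e ∈ Q := by
      by_contra h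
      have hle : Ideal.span ({e} : Set T) ≤ Q :=
        (Ideal.span_singleton_le_iff_mem _).2 ((mem_iff_of_idem he Q).2 h)
      let q := Q.map (Ideal.Quotient.mk (Ideal.span ({e} : Set T)))
      have hc : q.comap (Ideal.Quotient.mk (Ideal.span ({e} : Set T))) = Q := by
        rw [Ideal.comap_map_of_surjective' _ Ideal.Quotient.mk_surjective, Ideal.mk_ker, sup_eq_left]
        exact hle
      haveI : q.IsPrime := Ideal.map_isPrime_of_surjective Ideal.Quotient.mk_surjective (by rwa [Ideal.mk_ker])
      haveI : Algebra.QuasiFinite R (T ⧸ Ideal.span ({e} : Set T)) :=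
        Algebra.QuasiFinite.of_surjective_algHom (Ideal.Quotient.mkₐ R _) Ideal.Quotient.mk_surjective
      exact hno q ⟨by
        rw [← hQR]; conv_lhs => rw [← hc]
        rw [Ideal.comap_comap]; rfl⟩ (Algebra.QuasiFinite.of_isLocalization q.primeCompl)
    have hle : Ideal.span ({1 - e} : Set T) ≤ Q := (Ideal.span_singleton_le_iff_mem _).2 he1
    let M := Q.map (Ideal.Quotient.mk (Ideal.span ({1 - e} : Set T)))
    have hM : M.comap (algebraMap A C₀) = n := by
      rw [hQ.over, Ideal.under]
      have hc : M.comap (Ideal.Quotient.mk (Ideal.span ({1 - e} : Set T))) = Q := by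
        rw [Ideal.comap_map_of_surjective' _ Ideal.Quotient.mk_surjective, Ideal.mk_ker, sup_eq_left]
        exact hle
      conv_rhs => rw [← hc]
      rw [Ideal.comap_comap]
      rfl
    haveI : M.IsPrime := Ideal.map_isPrime_of_surjective Ideal.Quotient.mk_surjective (by rwa [Ideal.mk_ker])
    exact ⟨M, Ideal.isMaximal_of_isIntegral_of_isMaximal_comap M (by rwa [hM]), hM⟩
  choose sel hsel hselc using hover
  obtain ⟨_, E, hE, hEM⟩ := Groth.Agent.Hensel.exists_idempotents_of_henselian R C₀
  let good : Finset (MaximalSpectrum C₀) :=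
    Finset.univ.filter fun M => ∃ (n : Ideal A) (hn : n.IsMaximal), sel n hn = M.asIdeal
  let e' := ∑ M ∈ good, E M
  have he' : IsIdempotentElem e' := hE.toOrthogonalIdempotents.isIdempotentElem_sum
  have hmem : ∀ M : MaximalSpectrum C₀, 1 - e' ∈ M.asIdeal ↔ M ∈ good := by
    intro M
    haveI := M.isMaximal
    have key : e' ∈ M.asIdeal ↔ M ∉ good := by
      constructor
      · intro h hM
        refine (hEM M).1 ?_
        have h2 : ∑ N ∈ good.erase M, E N ∈ M.asIdeal :=
          Ideal.sum_mem _ fun N hN => (hEM N).2 M (Finset.ne_of_mem_erase hN).symm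
        have h3 : E M = e' - ∑ N ∈ good.erase M, E N := by
          rw [show e' = E M + ∑ N ∈ good.erase M, E N from (Finset.add_sum_erase _ _ hM).symm, add_sub_cancel_right]
        rw [h3]
        exact sub_mem h h2
      · intro hM
        exact Ideal.sum_mem _ fun N hN => (hEM N).2 M fun hh => hM (hh ▸ hN)
    rw [← not_iff_not, ← key, mem_iff_of_idem he' M.asIdeal]
  let C := C₀ ⧸ Ideal.span ({1 - e'} : Set C₀)
  haveI : Module.Flat A C := flat_quotient_one_sub he'
  haveI : Algebra.FinitePresentation A C := Algebra.FinitePresentation.quotient ⟨{1 - e'}, by simp⟩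
  have hpush : ∀ P : Ideal C, P.IsMaximal → ∃ (n : Ideal A) (hn : n.IsMaximal),
      P.comap (Ideal.Quotient.mk _) = sel n hn ∧ P.comap (algebraMap A C) = n := by
    intro P hP
    haveI : (P.comap (Ideal.Quotient.mk (Ideal.span ({1 - e'} : Set C₀)))).IsMaximal :=
      Ideal.comap_isMaximal_of_surjective _ Ideal.Quotient.mk_surjective
    obtain ⟨n, hn, hnsel⟩ := (Finset.mem_filter.1 ((hmem ⟨_, this⟩).1 (by
      show Ideal.Quotient.mk _ (1 - e') ∈ P
      rw [Ideal.Quotient.eq_zero_iff_mem.2 (Ideal.mem_span_singleton_self _)]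
      exact P.zero_mem))).2
    refine ⟨n, hn, hnsel.symm, ?_⟩
    rw [← hselc n hn, hnsel, Ideal.comap_comap]
    rfl
  refine ⟨C, inferInstance, inferInstance, inferInstance, ⟨fun n hn htop => ?_⟩, inferInstance,
    fun P Q hP hQ hPQ => ?_,
    ⟨((Ideal.Quotient.mkₐ A _).comp (Ideal.Quotient.mkₐ A _)).comp f⟩⟩
  · haveI := hsel n hn
    have hm : 1 - e' ∈ sel n hn :=
      (hmem ⟨sel n hn, hsel n hn⟩).2 (Finset.mem_filter.2 ⟨Finset.mem_univ _, n, hn, rfl⟩)
    let P := (sel n hn).map (Ideal.Quotient.mk (Ideal.span ({1 - e'} : Set C₀)))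
    have hc : P.comap (Ideal.Quotient.mk (Ideal.span ({1 - e'} : Set C₀))) = sel n hn := by
      rw [Ideal.comap_map_of_surjective' _ Ideal.Quotient.mk_surjective, Ideal.mk_ker, sup_eq_left,
        Ideal.span_singleton_le_iff_mem]
      exact hm
    have hle : n • (⊤ : Submodule A C) ≤ P.restrictScalars A := by
      refine Submodule.smul_le.2 fun a ha x _ => ?_
      rw [Submodule.restrictScalars_mem]
      rw [← smul_one_mul a x, ← Algebra.algebraMap_eq_smul_one]
      refine Ideal.mul_mem_right _ P ?_
      rw [← hselc n hn, ← hc, Ideal.comap_comap] at ha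
      exact ha
    rw [htop] at hle
    have h1 : (1 : C) ∈ P := hle Submodule.mem_top
    have h2 : (1 : C₀) ∈ P.comap (Ideal.Quotient.mk (Ideal.span ({1 - e'} : Set C₀))) := by
      rw [Ideal.mem_comap, map_one]; exact h1
    rw [hc] at h2
    exact (hsel n hn).ne_top ((Ideal.eq_top_iff_one _).2 h2)
  · obtain ⟨n, hn, h1, h2⟩ := hpush P hP
    obtain ⟨n', hn', h3, h4⟩ := hpush Q hQ
    obtain rfl : n = n' := by rw [← h2, ← h4, hPQ]
    exact Ideal.comap_injective_of_surjective _ Ideal.Quotient.mk_surjective (h1.trans h3.symm)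

end Groth.Agent.DualOv79
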