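import Groth.Agent.DualOv79.Coef
import Groth.Agent.DualOv79.Refine
import Groth.Agent.Hensel.HfpFinite
import Groth.Agent.Hensel.PairBasic
import Mathlib.RingTheory.Flat.EquationalCriterion
import Mathlib.RingTheory.Finiteness.ModuleFinitePresentation

/-!
# Coverings of finite projective algebras over products of henselian local rings
-/

set_option autoImplicit false

universe u

open IsLocalRing TensorProduct

namespace Groth.Agent.DualOv79

/-- A quasi-finite algebra of finite type over a ring of dimension zero is finite. -/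
theorem finite_of_quasiFinite {A T : Type u} [CommRing A] [CommRing T] [Algebra A T] [Algebra.FiniteType A T]
    [Algebra.QuasiFinite A T] (hA : ∀ p : Ideal A, p.IsPrime → p.IsMaximal) : Module.Finite A T := by
  let F := integralClosure A T
  suffices h : ∀ x : T, x ∈ F by
    haveI : Algebra.IsIntegral A T := ⟨fun x => h x⟩
    exact Algebra.IsIntegral.finite
  let W : Ideal F := ⨅ t : T, Ideal.radical
    { carrier := {g : F | (g : T) * t ∈ F}
      zero_mem' := by simp
      add_mem' := fun {a b} ha hb => by
        show ((a + b : F) : T) * t ∈ F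
        rw [Subalgebra.coe_add, add_mul]; exact add_mem ha hb
      smul_mem' := fun c g hg => by
        show ((c • g : F) : T) * t ∈ F
        rw [smul_eq_mul, Subalgebra.coe_mul, mul_assoc]; exact mul_mem c.2 hg }
  have hW : W = ⊤ := by
    by_contra hne
    obtain ⟨P, hP, hle⟩ := Ideal.exists_le_maximal W hne
    have hmin : P ∈ minimalPrimes F := ⟨⟨hP.isPrime, bot_le⟩, fun Q hQ hQP => by
      haveI := hQ.1
      haveI : (Q.comap (algebraMap A F)).IsMaximal := hA _ inferInstance
      exact ((Ideal.isMaximal_of_isIntegral_of_isMaximal_comap (R := A) Q inferInstance).eq_of_le hP.ne_top hQP).ge⟩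
    obtain ⟨q, hq, hqP⟩ := Ideal.exists_comap_eq_of_mem_minimalPrimes_of_injective
      (f := (F.val : F →ₐ[A] T).toRingHom) Subtype.val_injective P hmin
    haveI : Algebra.QuasiFiniteAt A q := Algebra.QuasiFinite.of_isLocalization q.primeCompl
    obtain ⟨r, hrq, hr, hu⟩ :=
      Algebra.zariskisMainProperty_iff.mp (Algebra.ZariskisMainProperty.of_finiteType (R := A) q)
    have hmem : (⟨r, hr⟩ : F) ∈ W := (Submodule.mem_iInf _).mpr fun t => by
      obtain ⟨m, hm⟩ := hu t
      refine ⟨m, ?_⟩
      show (((⟨r, hr⟩ : F) ^ m : F) : T) * t ∈ F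
      exact hm
    have := hle hmem
    rw [← hqP] at this
    exact hrq this
  intro x
  obtain ⟨m, hm⟩ := (Submodule.mem_iInf _).mp (hW ▸ Submodule.mem_top : (1 : F) ∈ W) x
  have h1 : (((1 : F) ^ m : F) : T) * x ∈ F := hm
  simpa using h1

variable {ι : Type u} (R : ι → Type u) [∀ i, CommRing (R i)]

open scoped Classical in
/-- The idempotent of a factor. -/
noncomputable def del (i : ι) : ∀ j, R j := Pi.single i 1

variable {R}

theorem del_idem (i : ι) : IsIdempotentElem (del R i) := by
  ext j
  rcases eq_or_ne j i with rfl | h <;> simp [del, *]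

theorem smul_eq_zero_of_del {M : Type u} [AddCommGroup M] [Module (∀ i, R i) M] [Module.Projective (∀ i, R i) M]
    (m : M) (h : ∀ i, del R i • m = 0) : m = 0 := by
  obtain ⟨s, hs⟩ := (Module.projective_def (R := ∀ i, R i) (P := M)).1 inferInstance
  rw [← hs m]
  suffices s m = 0 by rw [this, map_zero]
  ext x i
  have := congrArg (fun z => z x i) ((map_smul s (del R i) m).symm.trans ((congrArg s (h i)).trans (map_zero s)))
  simpa [del] using this

theorem exists_glue {M : Type u} [AddCommGroup M] [Module (∀ i, R i) M] [Module.Finite (∀ i, R i) M] (f : ι → M) :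
    ∃ m : M, ∀ i, del R i • m = del R i • f i := by
  classical
  obtain ⟨n, g, hg⟩ := Module.Finite.exists_fin' (∀ i, R i) M
  choose c hc using fun i => hg (f i)
  refine ⟨g fun k i => c i k i, fun i => ?_⟩
  rw [← hc i, ← map_smul, ← map_smul]
  congr 1
  ext k j
  rcases eq_or_ne j i with rfl | h <;> simp [del, *]

/-- An element of a finite projective algebra is in the Jacobson radical if each of its components is. -/
theorem mem_jacobson_of_del {A : Type u} [CommRing A] [Algebra (∀ i, R i) A] [Module.Finite (∀ i, R i) A]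
    [Module.Projective (∀ i, R i) A] (x : A) (h : ∀ i, del R i • x ∈ Ideal.jacobson (⊥ : Ideal A)) :
    x ∈ Ideal.jacobson (⊥ : Ideal A) := by
  rw [Ideal.mem_jacobson_bot]
  intro y
  choose z hz using fun i => (Ideal.mem_jacobson_bot.1 (h i) y).exists_right_inv
  obtain ⟨w, hw⟩ := exists_glue (R := R) z
  refine IsUnit.of_mul_eq_one w (sub_eq_zero.1 (smul_eq_zero_of_del (R := R) _ fun i => ?_))
  rw [smul_sub, sub_eq_zero, ← mul_smul_comm, hw i]
  calc (x * y + 1) * del R i • z i = (del R i • x * y + 1) * del R i • z i := by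
        rw [add_mul, add_mul]
        congr 1
        simp only [smul_mul_assoc, mul_smul_comm, smul_smul, (del_idem i).eq]
    _ = del R i • ((del R i • x * y + 1) * z i) := mul_smul_comm _ _ _
    _ = del R i • (1 : A) := by rw [hz i]

variable [∀ i, HenselianLocalRing (R i)]

/-- Every covering of a finite projective algebra over a product of henselian local rings is dominated by a finite
projective covering with one maximal ideal over each maximal ideal in each factor. -/
theorem exists_refinement_pi (A B : Type u) [CommRing A] [Algebra (∀ i, R i) A] [Module.Finite (∀ i, R i) A]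
    [Module.Projective (∀ i, R i) A] [CommRing B] [Algebra A B] [Module.FaithfullyFlat A B]
    [Algebra.FinitePresentation A B] :
    ∃ (C : Type u) (_ : CommRing C) (_ : Algebra A C), Module.Finite A C ∧ Module.FaithfullyFlat A C ∧
      Algebra.FinitePresentation A C ∧
      (∀ i, ∀ P Q : Ideal C, P.IsMaximal → Q.IsMaximal →
        algebraMap A C (algebraMap (∀ i, R i) A (1 - del R i)) ∈ P →
        P.comap (algebraMap A C) = Q.comap (algebraMap A C) → P = Q) ∧
      Nonempty (B →ₐ[A] C) := by
  classical
  let O := ∀ i, R i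
  obtain ⟨T, _, _, hqf, hft, hff, hfp, ⟨f⟩⟩ := Groth.Agent.S9432.result A B
  letI : Algebra O T := ((algebraMap A T).comp (algebraMap O A)).toAlgebra
  haveI : IsScalarTower O A T := IsScalarTower.of_algebraMap_eq fun _ => rfl
  haveI : Algebra.FiniteType O T := Algebra.FiniteType.trans (S := A) inferInstance inferInstance
  haveI : Algebra.QuasiFinite O T := Algebra.QuasiFinite.trans O A T
  -- the maximal ideals of the factors
  let J : Ideal O := ⨅ i, (maximalIdeal (R i)).comap (Pi.evalRingHom R i)
  haveI : HenselianRing O J := (Groth.Agent.Hensel.henselianRing_pi_iff' _).2 fun i => inferInstance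
  have hzero : ∀ p : Ideal (O ⧸ J), p.IsPrime → p.IsMaximal := fun p hp => by
    refine Ideal.isMaximal_iff.2 ⟨fun h1 => hp.ne_top ((Ideal.eq_top_iff_one _).2 h1), fun I x hle hxp hxI => ?_⟩
    obtain ⟨a, rfl⟩ := Ideal.Quotient.mk_surjective x
    let y : O := fun i => if h : IsUnit (a i) then ↑(h.unit⁻¹) else 0
    have hy : Ideal.Quotient.mk J a * (1 - Ideal.Quotient.mk J a * Ideal.Quotient.mk J y) = 0 := by
      rw [← map_one (Ideal.Quotient.mk J), ← map_mul, ← map_sub, ← map_mul, Ideal.Quotient.eq_zero_iff_mem]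
      refine (Groth.Agent.Hensel.eq_ideal_map_of_pi _ _).2 fun i => ?_
      show a i * (1 - a i * y i) ∈ maximalIdeal (R i)
      by_cases h : IsUnit (a i)
      · simp [y, h]
      · exact Ideal.mul_mem_right _ _ h
    have : (1 : O ⧸ J) - Ideal.Quotient.mk J a * Ideal.Quotient.mk J y ∈ p :=
      (hp.mem_or_mem (hy ▸ p.zero_mem)).resolve_left hxp
    simpa using I.add_mem (hle this) (I.mul_mem_right (Ideal.Quotient.mk J y) hxI)
  let T' := T ⧸ J.map (algebraMap O T)
  haveI : Algebra.QuasiFinite O T' :=
    Algebra.QuasiFinite.of_surjective_algHom (Ideal.Quotient.mkₐ O _) Ideal.Quotient.mk_surjective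
  haveI : Algebra.QuasiFinite (O ⧸ J) T' := Algebra.QuasiFinite.of_restrictScalars O (O ⧸ J) T'
  haveI : Algebra.FiniteType (O ⧸ J) T' := Algebra.FiniteType.of_restrictScalars_finiteType O (O ⧸ J) T'
  haveI : Module.Finite (O ⧸ J) T' := finite_of_quasiFinite hzero
  haveI : Module.Finite O T' := Module.Finite.trans (O ⧸ J) T'
  obtain ⟨e, he, he1, hfin⟩ := Groth.Agent.Hensel.exists_idempotent_finite_of_finite_quotient J (A := O) (R := T)
  let C₀ := T ⧸ Ideal.span ({1 - e} : Set T)
  haveI : Module.Finite A C₀ := Module.Finite.of_restrictScalars_finite O A C₀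
  haveI : Algebra.FinitePresentation A C₀ := Algebra.FinitePresentation.quotient ⟨{1 - e}, by simp⟩
  haveI : Module.Flat A C₀ := flat_quotient_one_sub he
  haveI : Algebra.IsIntegral O A := inferInstance
  have hover : ∀ n : Ideal A, n.IsMaximal → ∃ M : Ideal C₀, M.IsMaximal ∧ M.comap (algebraMap A C₀) = n := by
    intro n hn
    obtain ⟨Q, hQp, hQ⟩ := Ideal.exists_isPrime_liesOver_of_faithfullyFlat (B := T) n
    have hJQ : J.map (algebraMap O T) ≤ Q := by
      have h1 : (n.comap (algebraMap O A)).IsMaximal := Ideal.isMaximal_comap_of_isIntegral_of_isMaximal n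
      have h2 : J ≤ n.comap (algebraMap O A) := fun x hx => by
        have := (HenselianRing.jac (R := O) (I := J)) hx
        exact (Ideal.mem_sInf.1 this) ⟨bot_le, h1⟩
      refine Ideal.map_le_iff_le_comap.2 (h2.trans ?_)
      rw [hQ.over, Ideal.under, Ideal.comap_comap]
      rfl
    have hle : Ideal.span ({1 - e} : Set T) ≤ Q := (Ideal.span_singleton_le_iff_mem _).2 (hJQ he1)
    let M := Q.map (Ideal.Quotient.mk (Ideal.span ({1 - e} : Set T)))
    have hM : M.comap (algebraMap A C₀) = n := by
      rw [hQ.over, Ideal.under]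
      have hc : M.comap (Ideal.Quotient.mk (Ideal.span ({1 - e} : Set T))) = Q := by
        rw [Ideal.comap_map_of_surjective' _ Ideal.Quotient.mk_surjective, Ideal.mk_ker, sup_eq_left]
        exact hle
      conv_rhs => rw [← hc]
      rw [Ideal.comap_comap]
      rfl
    haveI : M.IsPrime := Ideal.map_isPrime_of_surjective Ideal.Quotient.mk_surjective (by rwa [Ideal.mk_ker])
    exact ⟨M, Ideal.isMaximal_of_isIntegral_of_isMaximal_comap M (by rwa [hM]), hM⟩
  haveI : Module.FinitePresentation A C₀ := Module.FinitePresentation.of_finite_of_finitePresentation A C₀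
  haveI : Module.FinitePresentation O A := Module.finitePresentation_of_projective O A
  haveI : Module.FinitePresentation O C₀ := Module.FinitePresentation.trans O C₀ A
  haveI : Module.Flat O C₀ := Module.Flat.trans O A C₀
  haveI : Module.Projective O C₀ := Module.Flat.projective_of_finitePresentation
  choose sel hsel hselc using hover
  -- the selection in one factor
  have hsplit : ∀ i, ∃ ε : C₀, IsIdempotentElem (del R i • ε) ∧
      ∀ M : Ideal C₀, M.IsMaximal → algebraMap O C₀ (1 - del R i) ∈ M →
        (ε ∉ M ↔ ∃ (n : Ideal A) (hn : n.IsMaximal), sel n hn = M) := by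
    intro i
    let D := C₀ ⧸ Ideal.span {algebraMap O C₀ (1 - del R i)}
    have hker : RingHom.ker (Pi.evalRingHom R i) ≤ RingHom.ker (algebraMap O D) := fun x hx => by
      have hx' : x = (1 - del R i) * x := by
        ext j
        rcases eq_or_ne j i with rfl | h
        · simp [del, show x j = 0 from hx]
        · simp [del, h]
      rw [RingHom.mem_ker, hx', map_mul, show algebraMap O D (1 - del R i) = 0 from
        Ideal.Quotient.eq_zero_iff_mem.2 (Ideal.mem_span_singleton_self _), zero_mul]
    let φ : R i →+* D := RingHom.liftOfSurjective (Pi.evalRingHom R i)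
      (fun r => ⟨Pi.single i r, by simp⟩) ⟨algebraMap O D, hker⟩
    letI : Algebra (R i) D := φ.toAlgebra
    have hφ : ∀ x : O, φ (x i) = algebraMap O D x := fun x =>
      RingHom.liftOfRightInverse_comp_apply _ _ _ ⟨algebraMap O D, hker⟩ x
    haveI : Module.Finite (R i) D := by
      obtain ⟨s, hs⟩ := (inferInstance : Module.Finite O D)
      refine ⟨⟨s, Submodule.eq_top_iff'.2 fun d => ?_⟩⟩
      have hd : d ∈ Submodule.span O (s : Set D) := hs ▸ Submodule.mem_top
      induction hd using Submodule.span_induction with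
      | mem x hx => exact Submodule.subset_span hx
      | zero => exact Submodule.zero_mem _
      | add x y _ _ hx hy => exact Submodule.add_mem _ hx hy
      | smul a x _ hx =>
        have : a • x = (a i) • x := by
          rw [← smul_one_mul a x, ← Algebra.algebraMap_eq_smul_one, ← smul_one_mul (a i) x,
            ← Algebra.algebraMap_eq_smul_one]
          exact congrArg (· * x) (hφ a).symm
        exact this ▸ Submodule.smul_mem _ _ hx
    obtain ⟨_, E, hE, hEM⟩ := Groth.Agent.Hensel.exists_idempotents_of_henselian (R i) D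
    let good : Finset (MaximalSpectrum D) := Finset.univ.filter fun M =>
      ∃ (n : Ideal A) (hn : n.IsMaximal), sel n hn = M.asIdeal.comap (Ideal.Quotient.mk _)
    have he' : IsIdempotentElem (∑ M ∈ good, E M) := hE.toOrthogonalIdempotents.isIdempotentElem_sum
    have hmem : ∀ M : MaximalSpectrum D, ∑ N ∈ good, E N ∉ M.asIdeal ↔ M ∈ good := by
      intro M
      refine ⟨fun h => by_contra fun hM => h (Ideal.sum_mem _ fun N hN => (hEM N).2 M fun hh => hM (hh ▸ hN)),
        fun hM h => (hEM M).1 ?_⟩
      rw [← Finset.add_sum_erase _ _ hM] at h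
      simpa using sub_mem h
        (Ideal.sum_mem M.asIdeal fun N (hN : N ∈ good.erase M) => (hEM N).2 M (Finset.ne_of_mem_erase hN).symm)
    obtain ⟨ε, hε⟩ := Ideal.Quotient.mk_surjective (∑ M ∈ good, E M)
    refine ⟨ε, ?_, fun M hM hMi => ?_⟩
    · have h0 : ε * ε - ε ∈ Ideal.span {algebraMap O C₀ (1 - del R i)} :=
        Ideal.Quotient.eq.1 (by rw [map_mul, hε, he'.eq])
      obtain ⟨c, hc⟩ := Ideal.mem_span_singleton'.1 h0
      show del R i • ε * del R i • ε = del R i • ε
      rw [smul_mul_smul_comm, (del_idem i).eq, ← sub_eq_zero, ← smul_sub, ← hc, Algebra.smul_def, mul_left_comm,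
        ← map_mul, mul_sub, mul_one, (del_idem i).eq, sub_self, map_zero, mul_zero]
    · haveI := hM
      have hle : RingHom.ker (Ideal.Quotient.mk (Ideal.span {algebraMap O C₀ (1 - del R i)})) ≤ M := by
        rw [Ideal.mk_ker, Ideal.span_singleton_le_iff_mem]; exact hMi
      have hc : (M.map (Ideal.Quotient.mk (Ideal.span {algebraMap O C₀ (1 - del R i)}))).comap
          (Ideal.Quotient.mk _) = M := by
        rw [Ideal.comap_map_of_surjective' _ Ideal.Quotient.mk_surjective, sup_eq_left]; exact hle
      haveI : (M.map (Ideal.Quotient.mk (Ideal.span {algebraMap O C₀ (1 - del R i)}))).IsMaximal :=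
        (Ideal.map_eq_top_or_isMaximal_of_surjective _ Ideal.Quotient.mk_surjective hM).resolve_left fun h => by
          rw [h, Ideal.comap_top] at hc
          exact hM.ne_top hc.symm
      have key := hmem ⟨_, this⟩
      rw [← hε] at key
      simp only [good, Finset.mem_filter, Finset.mem_univ, true_and, hc] at key
      refine Iff.trans (not_congr ?_) key
      show ε ∈ M ↔ Ideal.Quotient.mk _ ε ∈ M.map _
      rw [← Ideal.mem_comap, hc]
  choose ε hε₁ hε₂ using hsplit
  obtain ⟨ee, hee⟩ := exists_glue (R := R) ε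
  have hee' : IsIdempotentElem ee := sub_eq_zero.1 (smul_eq_zero_of_del (R := R) _ fun i => by
    rw [smul_sub, sub_eq_zero, show del R i • (ee * ee) = del R i • ee * del R i • ee by
      rw [smul_mul_smul_comm, (del_idem i).eq], hee i]
    exact (hε₁ i).eq)
  have hmem : ∀ i, ∀ M : Ideal C₀, M.IsMaximal → algebraMap O C₀ (1 - del R i) ∈ M →
      (1 - ee ∈ M ↔ ∃ (n : Ideal A) (hn : n.IsMaximal), sel n hn = M) := by
    intro i M hM hMi
    haveI := hM
    rw [← hε₂ i M hM hMi, ← not_iff_not, not_not, ← mem_iff_of_idem hee' M]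
    have key : ∀ x : C₀, x ∈ M ↔ del R i • x ∈ M := fun x => by
      have h2 : x - del R i • x ∈ M := by
        rw [Algebra.smul_def, show x - algebraMap O C₀ (del R i) * x = algebraMap O C₀ (1 - del R i) * x by
          rw [map_sub, map_one]; ring]
        exact M.mul_mem_right _ hMi
      exact ⟨fun h => by simpa using sub_mem h h2, fun h => by simpa using add_mem h h2⟩
    rw [key ee, key (ε i), hee i]
  let C := C₀ ⧸ Ideal.span ({1 - ee} : Set C₀)
  haveI : Module.Flat A C := flat_quotient_one_sub hee'
  haveI : Algebra.FinitePresentation A C := Algebra.FinitePresentation.quotient ⟨{1 - ee}, by simp⟩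
  refine ⟨C, inferInstance, inferInstance, inferInstance, ⟨fun n hn htop => ?_⟩, inferInstance,
    fun i P Q hP hQ hPi hPQ => ?_,
    ⟨((Ideal.Quotient.mkₐ A _).comp (Ideal.Quotient.mkₐ A _)).comp f⟩⟩
  · obtain ⟨r, hr1, hr⟩ := Submodule.exists_sub_one_mem_and_smul_eq_zero_of_fg_of_le_smul n
      (⊤ : Submodule A C) Module.Finite.fg_top htop.ge
    have hrC : algebraMap A C r = 0 := by
      have := hr (1 : C) Submodule.mem_top
      rwa [← Algebra.algebraMap_eq_smul_one] at this
    have hjac : r ∈ Ideal.jacobson (⊥ : Ideal A) := mem_jacobson_of_del (R := R) r fun i =>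
      Ideal.mem_sInf.2 fun {M} hM => by
        haveI := hM.2
        by_cases hMi : algebraMap O A (del R i) ∈ M
        · rw [Algebra.smul_def]; exact M.mul_mem_right _ hMi
        have h2 : algebraMap O A (1 - del R i) ∈ M := by
          have h3 : algebraMap O A (del R i) * algebraMap O A (1 - del R i) ∈ M := by
            rw [← map_mul, mul_sub, mul_one, (del_idem i).eq, sub_self, map_zero]; exact M.zero_mem
          exact (hM.2.isPrime.mem_or_mem h3).resolve_left hMi
        have hsM : algebraMap O C₀ (1 - del R i) ∈ sel M hM.2 := by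
          rw [IsScalarTower.algebraMap_apply O A C₀, ← Ideal.mem_comap, hselc]; exact h2
        have hle : Ideal.span {1 - ee} ≤ sel M hM.2 := (Ideal.span_singleton_le_iff_mem _).2
          ((hmem i _ (hsel M hM.2) hsM).2 ⟨M, hM.2, rfl⟩)
        rw [Algebra.smul_def]
        refine M.mul_mem_left _ ?_
        rw [← hselc M hM.2, Ideal.mem_comap]
        exact hle (Ideal.Quotient.eq_zero_iff_mem.1 hrC)
    have hrn : r ∈ n := Ideal.mem_sInf.1 hjac ⟨bot_le, hn⟩
    exact hn.ne_top ((Ideal.eq_top_iff_one _).2 (by simpa using n.sub_mem hrn hr1))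
  · haveI := hP
    haveI := hQ
    have hQi : algebraMap A C (algebraMap O A (1 - del R i)) ∈ Q := by
      rw [← Ideal.mem_comap, ← hPQ]; exact hPi
    have aux : ∀ P : Ideal C, P.IsMaximal → algebraMap A C (algebraMap O A (1 - del R i)) ∈ P →
        ∃ (n : Ideal A) (hn : n.IsMaximal), sel n hn = P.comap (Ideal.Quotient.mk _) ∧
          P.comap (algebraMap A C) = n := by
      intro P hP hPi
      haveI : (P.comap (Ideal.Quotient.mk (Ideal.span ({1 - ee} : Set C₀)))).IsMaximal :=
        Ideal.comap_isMaximal_of_surjective _ Ideal.Quotient.mk_surjective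
      obtain ⟨n, hn, hnsel⟩ := (hmem i _ this (by
        rw [IsScalarTower.algebraMap_apply O A C₀]; exact hPi)).1 (by
          show Ideal.Quotient.mk _ (1 - ee) ∈ P
          rw [Ideal.Quotient.eq_zero_iff_mem.2 (Ideal.mem_span_singleton_self _)]
          exact P.zero_mem)
      refine ⟨n, hn, hnsel, ?_⟩
      rw [← hselc n hn, hnsel, Ideal.comap_comap]
      rfl
    obtain ⟨n, hn, h1, h2⟩ := aux P hP hPi
    obtain ⟨n', hn', h3, h4⟩ := aux Q hQ hQi
    obtain rfl : n = n' := by rw [← h2, ← h4, hPQ]
    exact Ideal.comap_injective_of_surjective _ Ideal.Quotient.mk_surjective (h1.symm.trans h3)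

/-- An additive cocycle with values in the integers vanishes on such a covering. -/
theorem eq_one_of_cocycle_pi {A C : Type u} [CommRing A] [CommRing C] [Algebra (∀ i, R i) A]
    [Module.Finite (∀ i, R i) A] [Module.Projective (∀ i, R i) A] [Algebra A C] [Module.Finite A C]
    [Module.Flat A C] [Algebra.FinitePresentation A C]
    (huniq : ∀ i, ∀ P Q : Ideal C, P.IsMaximal → Q.IsMaximal →
      algebraMap A C (algebraMap (∀ i, R i) A (1 - del R i)) ∈ P →
      P.comap (algebraMap A C) = Q.comap (algebraMap A C) → P = Q)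
    {u : MonoidAlgebra (C ⊗[A] C) DualGm79.Z} (hu : DualGm79.IsGL u)
    (h : MonoidAlgebra.mapRingHom DualGm79.Z
        (Algebra.TensorProduct.includeRight : C ⊗[A] C →ₐ[A] C ⊗[A] (C ⊗[A] C)).toRingHom u *
        MonoidAlgebra.mapRingHom DualGm79.Z
          (Algebra.TensorProduct.map (AlgHom.id A C) Algebra.TensorProduct.includeLeft :
          C ⊗[A] C →ₐ[A] C ⊗[A] (C ⊗[A] C)).toRingHom u =
      MonoidAlgebra.mapRingHom DualGm79.Z
        (Algebra.TensorProduct.map (AlgHom.id A C) Algebra.TensorProduct.includeRight :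
          C ⊗[A] C →ₐ[A] C ⊗[A] (C ⊗[A] C)).toRingHom u) : u = 1 := by
  let O := ∀ i, R i
  haveI : Module.FinitePresentation A C := Module.FinitePresentation.of_finite_of_finitePresentation A C
  letI : Algebra O (C ⊗[A] C) := ((algebraMap A (C ⊗[A] C)).comp (algebraMap O A)).toAlgebra
  haveI : IsScalarTower O A (C ⊗[A] C) := IsScalarTower.of_algebraMap_eq fun _ => rfl
  haveI : Module.Projective A C := Module.Flat.projective_of_finitePresentation
  haveI : Module.Flat O (C ⊗[A] C) := Module.Flat.trans O A (C ⊗[A] C)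
  haveI : Module.FinitePresentation A (C ⊗[A] C) := Module.finitePresentation_of_projective A (C ⊗[A] C)
  haveI : Module.FinitePresentation O A := Module.finitePresentation_of_projective O A
  haveI : Module.FinitePresentation O (C ⊗[A] C) := Module.FinitePresentation.trans O (C ⊗[A] C) A
  haveI : Module.Projective O (C ⊗[A] C) := Module.Flat.projective_of_finitePresentation
  have hidem : IsIdempotentElem (u.coeff 1) := by
    show _ * _ = _
    rw [hu.mul, if_pos rfl]
  suffices h1 : 1 - u.coeff 1 = 0 by
    refine hu.eq_one fun P hP hmem => hP.ne_top ((Ideal.eq_top_iff_one _).2 ?_)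
    rwa [← sub_eq_zero.1 h1] at hmem
  refine smul_eq_zero_of_del (R := R) _ fun i => ?_
  have hid2 : IsIdempotentElem (del R i • (1 - u.coeff 1)) := by
    show _ * _ = _
    rw [smul_mul_smul_comm, (del_idem i).eq, hidem.one_sub.eq]
  have hmax : ∀ P : Ideal (C ⊗[A] C), P.IsMaximal → del R i • (1 - u.coeff 1) ∈ P := by
    intro P hP
    rw [Algebra.smul_def]
    by_cases hPi : algebraMap O (C ⊗[A] C) (del R i) ∈ P
    · exact P.mul_mem_right _ hPi
    refine P.mul_mem_left _ ?_
    have h2 : algebraMap O (C ⊗[A] C) (1 - del R i) ∈ P := by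
      have h3 : algebraMap O (C ⊗[A] C) (del R i) * algebraMap O (C ⊗[A] C) (1 - del R i) ∈ P := by
        rw [← map_mul, mul_sub, mul_one, (del_idem i).eq, sub_self, map_zero]; exact P.zero_mem
      exact (hP.isPrime.mem_or_mem h3).resolve_left hPi
    have hn := coeff_one_notMem hu h P fun P₁ P₂ m₁ m₂ e₁ e₂ => huniq i P₁ P₂ m₁ m₂ (by
      rw [← Ideal.mem_comap, e₁]; exact h2) (e₁.trans e₂.symm)
    exact by_contra fun h4 => hn ((mem_iff_of_idem hidem P).2 h4)
  obtain ⟨c, hc⟩ := (show IsUnit (1 - del R i • (1 - u.coeff 1)) from by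
    by_contra hnu
    obtain ⟨P, hP, hle⟩ := exists_max_ideal_of_mem_nonunits hnu
    exact hP.ne_top ((Ideal.eq_top_iff_one _).2 (by simpa using P.add_mem hle (hmax P hP)))).exists_left_inv
  have := congrArg (· * del R i • (1 - u.coeff 1)) hc
  simp only [mul_assoc, sub_mul, one_mul, hid2.eq, sub_self, mul_zero] at this
  exact this.symm

end Groth.Agent.DualOv79
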