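import Groth.Agent.DualOv79.Coef
import Groth.Agent.DualOv79.Pi

/-!
# Bounding and gluing integer valued cochains with a bounded coboundary
-/

set_option autoImplicit false

universe u

open TensorProduct MonoidAlgebra

namespace Groth.Agent.DualOv79

open Groth.Agent.DualGm79

/-- A constant Laurent polynomial coming from the base. -/
noncomputable def dl {A : Type u} [CommRing A] (D : Type u) [CommRing D] [Algebra A D] (a : A) : MonoidAlgebra D Z :=
  MonoidAlgebra.single 1 (algebraMap A D a)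

theorem coeff_dl_mul {A D : Type u} [CommRing A] [CommRing D] [Algebra A D] (a : A) (x : MonoidAlgebra D Z) (m : Z) :
    (dl D a * x).coeff m = algebraMap A D a * x.coeff m :=
  MonoidAlgebra.coeff_single_one_mul x (algebraMap A D a) m

theorem map_dl {A D D' : Type u} [CommRing A] [CommRing D] [Algebra A D] [CommRing D'] [Algebra A D'] (a : A)
    (φ : D →ₐ[A] D') : mapRingHom Z φ.toRingHom (dl D a) = dl D' a := by
  rw [dl, dl, mapRingHom_single]
  exact congrArg _ (φ.commutes a)

theorem sum_coeff_eq {D : Type u} [CommRing D] (x : MonoidAlgebra D Z) :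
    (x.coeff.sum fun _ c => c) = MonoidAlgebra.lift D D Z (1 : Z →* D) x := by
  rw [MonoidAlgebra.lift_apply]
  simp

/-- A cochain whose coboundary is bounded is bounded by the same number at the points below which the algebra has
one maximal ideal. -/
theorem natAbs_le_of_cocycle {A C : Type u} [CommRing A] [CommRing C] [Algebra A C] [Module.Finite A C]
    {u : MonoidAlgebra (C ⊗[A] C) Z} (hu : IsGL u) {uc : MonoidAlgebra (C ⊗[A] (C ⊗[A] C)) Z} (huc : IsGL uc)
    (a : A)
    (h : dl (C ⊗[A] (C ⊗[A] C)) a *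
        (mapRingHom Z (Algebra.TensorProduct.includeRight : C ⊗[A] C →ₐ[A] C ⊗[A] (C ⊗[A] C)).toRingHom u *
        mapRingHom Z (Algebra.TensorProduct.map (AlgHom.id A C) Algebra.TensorProduct.includeLeft :
          C ⊗[A] C →ₐ[A] C ⊗[A] (C ⊗[A] C)).toRingHom u) =
      dl (C ⊗[A] (C ⊗[A] C)) a *
        (mapRingHom Z (Algebra.TensorProduct.map (AlgHom.id A C) Algebra.TensorProduct.includeRight :
          C ⊗[A] C →ₐ[A] C ⊗[A] (C ⊗[A] C)).toRingHom u * uc))
    (N : ℕ) (hN : ∀ m : Z, uc.coeff m ≠ 0 → (Multiplicative.toAdd m).natAbs ≤ N)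
    (P : Ideal (C ⊗[A] C)) [P.IsMaximal] (ha : algebraMap A (C ⊗[A] C) (1 - a) ∈ P)
    (huniq : ∀ P₁ P₂ : Ideal C, P₁.IsMaximal → P₂.IsMaximal →
      P₁.comap (algebraMap A C) = P.comap (algebraMap A (C ⊗[A] C)) →
      P₂.comap (algebraMap A C) = P.comap (algebraMap A (C ⊗[A] C)) → P₁ = P₂)
    (m : Z) (hm : u.coeff m ∉ P) : (Multiplicative.toAdd m).natAbs ≤ N := by
  classical
  let n := P.comap (algebraMap A (C ⊗[A] C))
  haveI : n.IsMaximal := Ideal.isMaximal_comap_of_isIntegral_of_isMaximal P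
  letI : Field (A ⧸ n) := Ideal.Quotient.field n
  let Ω := AlgebraicClosure (A ⧸ n)
  have hn : RingHom.ker (algebraMap A Ω) = n := by
    rw [IsScalarTower.algebraMap_eq A (A ⧸ n) Ω,
      RingHom.ker_comp_of_injective _ (algebraMap (A ⧸ n) Ω).injective]
    exact Ideal.mk_ker
  have haΩ : algebraMap A Ω a = 1 := by
    have h1 : (1 - a) ∈ RingHom.ker (algebraMap A Ω) := by rw [hn]; exact ha
    rw [RingHom.mem_ker, map_sub, map_one, sub_eq_zero] at h1
    exact h1.symm
  let d : (C ⊗[A] C →ₐ[A] Ω) → Z := fun ψ => (hu.exists_unique_deg ψ.toRingHom).choose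
  have hd : ∀ ψ : C ⊗[A] C →ₐ[A] Ω, mapRingHom Z ψ.toRingHom u = MonoidAlgebra.single (d ψ) 1 :=
    fun ψ => (hu.exists_unique_deg ψ.toRingHom).choose_spec
  have hdouble : ∀ ψ, ∃ (ψ' : C ⊗[A] C →ₐ[A] Ω) (e : Z), (Multiplicative.toAdd e).natAbs ≤ N ∧
      d ψ * d ψ = d ψ' * e := by
    intro ψ
    let σ : C →ₐ[A] Ω := ψ.comp Algebra.TensorProduct.includeLeft
    let τ : C →ₐ[A] Ω := ψ.comp Algebra.TensorProduct.includeRight
    have hψ : ψ = Algebra.TensorProduct.productMap σ τ := Algebra.TensorProduct.ext' fun a b => by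
      simp [σ, τ, ← map_mul]
    obtain ⟨hσ, hσc⟩ := isMaximal_ker hn σ
    obtain ⟨hτ, hτc⟩ := isMaximal_ker hn τ
    obtain ⟨γ, hγ⟩ := exists_conj (n := n) σ τ (huniq _ _ hσ hτ hσc hτc)
    let Ψ : C ⊗[A] (C ⊗[A] C) →ₐ[A] Ω :=
      Algebra.TensorProduct.productMap σ (Algebra.TensorProduct.productMap τ (γ.comp τ))
    obtain ⟨e, he⟩ := huc.exists_unique_deg Ψ.toRingHom
    refine ⟨Ψ.comp (Algebra.TensorProduct.map (AlgHom.id A C) Algebra.TensorProduct.includeRight), e, hN e ?_, ?_⟩
    · intro h0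
      have := congrArg (fun x => x.coeff e) he
      simp [h0] at this
    have h₀ : Ψ.comp (Algebra.TensorProduct.includeRight : C ⊗[A] C →ₐ[A] C ⊗[A] (C ⊗[A] C)) = γ.comp ψ := by
      rw [hψ]
      refine Algebra.TensorProduct.ext' fun a b => ?_
      simp [Ψ, hγ]
    have h₂ : Ψ.comp (Algebra.TensorProduct.map (AlgHom.id A C)
        (Algebra.TensorProduct.includeLeft : C →ₐ[A] C ⊗[A] C)) = ψ := by
      rw [hψ]
      refine Algebra.TensorProduct.ext' fun a b => ?_
      simp [Ψ]
    have hmap : ∀ φ : C ⊗[A] C →ₐ[A] C ⊗[A] (C ⊗[A] C),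
        mapRingHom Z Ψ.toRingHom (mapRingHom Z φ.toRingHom u) = mapRingHom Z (Ψ.comp φ).toRingHom u := fun φ =>
      MonoidAlgebra.coeffEquiv.injective (Finsupp.ext fun m => by simp)
    have hγd : mapRingHom Z (γ.comp ψ).toRingHom u = MonoidAlgebra.single (d ψ) 1 := by
      have h1 : mapRingHom Z (γ.comp ψ).toRingHom u = mapRingHom Z γ.toRingHom (mapRingHom Z ψ.toRingHom u) :=
        MonoidAlgebra.coeffEquiv.injective (Finsupp.ext fun m => by simp)
      rw [h1, hd]
      simp
    have hone : mapRingHom Z Ψ.toRingHom (dl (C ⊗[A] (C ⊗[A] C)) a) = 1 := by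
      rw [map_dl, dl, show algebraMap A Ω a = 1 from haΩ]
      rfl
    have h' := congrArg (mapRingHom Z Ψ.toRingHom) h
    rw [map_mul, map_mul, map_mul, map_mul, hone, one_mul, one_mul, hmap, hmap, hmap, h₀, h₂, hγd, hd, hd, he,
      MonoidAlgebra.single_mul_single, MonoidAlgebra.single_mul_single, one_mul] at h'
    exact MonoidAlgebra.single_left_injective one_ne_zero h'
  have hstep : ∀ ψ, ∃ ψ', 2 * (Multiplicative.toAdd (d ψ)).natAbs ≤ (Multiplicative.toAdd (d ψ')).natAbs + N := by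
    intro ψ
    obtain ⟨ψ', e, he, h'⟩ := hdouble ψ
    have h2 := congrArg Multiplicative.toAdd h'
    rw [toAdd_mul, toAdd_mul] at h2
    exact ⟨ψ', by omega⟩
  have hsupp : ∀ ψ, d ψ ∈ u.coeff.support := by
    intro ψ
    rw [Finsupp.mem_support_iff]
    intro h0
    have := congrArg (fun x => x.coeff (d ψ)) (hd ψ)
    simp [h0] at this
  have hbound : ∀ ψ, (Multiplicative.toAdd (d ψ)).natAbs ≤ N := by
    suffices ∀ k, (∀ ψ, (Multiplicative.toAdd (d ψ)).natAbs ≤ N + k) → ∀ ψ, (Multiplicative.toAdd (d ψ)).natAbs ≤ N by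
      refine this (u.coeff.support.sup fun m => (Multiplicative.toAdd m).natAbs) fun ψ => ?_
      exact le_trans (Finset.le_sup (f := fun m : Z => (Multiplicative.toAdd m).natAbs) (hsupp ψ)) (Nat.le_add_left _ _)
    intro k
    induction k with
    | zero => exact fun h => h
    | succ k ih =>
      intro hk
      refine ih fun ψ => ?_
      obtain ⟨ψ', hψ'⟩ := hstep ψ
      have := hk ψ'
      omega
  letI : Field ((C ⊗[A] C) ⧸ P) := Ideal.Quotient.field P
  haveI : P.LiesOver n := ⟨rfl⟩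
  haveI : Module.Finite (A ⧸ n) ((C ⊗[A] C) ⧸ P) := Module.Finite.of_restrictScalars_finite A _ _
  let ψ : C ⊗[A] C →ₐ[A] Ω :=
    ((IsAlgClosed.lift : (C ⊗[A] C) ⧸ P →ₐ[A ⧸ n] Ω).restrictScalars A).comp (Ideal.Quotient.mkₐ A P)
  have hne : ψ (u.coeff m) ≠ 0 := by
    intro h0
    refine hm (Ideal.Quotient.eq_zero_iff_mem.1 ?_)
    exact (IsAlgClosed.lift : (C ⊗[A] C) ⧸ P →ₐ[A ⧸ n] Ω).toRingHom.injective
      (Eq.trans h0 (map_zero _).symm)
  have hdm : d ψ = m := by
    by_contra hne'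
    have := congrArg (fun x => x.coeff m) (hd ψ)
    simp [Ne.symm hne'] at this
    exact hne this
  rw [← hdm]
  exact hbound ψ

variable {ι : Type u} {R : ι → Type u} [∀ i, CommRing (R i)]

/-- Componentwise solutions of a coboundary equation glue. -/
theorem exists_glue_cochain [∀ i, HenselianLocalRing (R i)] {A C : Type u} [CommRing A] [CommRing C]
    [Algebra (∀ i, R i) A] [Module.Finite (∀ i, R i) A] [Module.Projective (∀ i, R i) A] [Algebra A C]
    [Module.Finite A C] [Module.Flat A C] [Algebra.FinitePresentation A C]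
    (huniq : ∀ i, ∀ P Q : Ideal C, P.IsMaximal → Q.IsMaximal →
      algebraMap A C (algebraMap (∀ i, R i) A (1 - del R i)) ∈ P →
      P.comap (algebraMap A C) = Q.comap (algebraMap A C) → P = Q)
    {uc : MonoidAlgebra (C ⊗[A] (C ⊗[A] C)) Z} (huc : IsGL uc)
    (uv : ι → MonoidAlgebra (C ⊗[A] C) Z) (huv : ∀ i, IsGL (uv i))
    (hv : ∀ i, dl (C ⊗[A] (C ⊗[A] C)) (algebraMap (∀ i, R i) A (del R i)) *
        (mapRingHom Z (Algebra.TensorProduct.includeRight : C ⊗[A] C →ₐ[A] C ⊗[A] (C ⊗[A] C)).toRingHom (uv i) *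
        mapRingHom Z (Algebra.TensorProduct.map (AlgHom.id A C) Algebra.TensorProduct.includeLeft :
          C ⊗[A] C →ₐ[A] C ⊗[A] (C ⊗[A] C)).toRingHom (uv i)) =
      dl (C ⊗[A] (C ⊗[A] C)) (algebraMap (∀ i, R i) A (del R i)) *
        (mapRingHom Z (Algebra.TensorProduct.map (AlgHom.id A C) Algebra.TensorProduct.includeRight :
          C ⊗[A] C →ₐ[A] C ⊗[A] (C ⊗[A] C)).toRingHom (uv i) * uc)) :
    ∃ u : MonoidAlgebra (C ⊗[A] C) Z, IsGL u ∧
      mapRingHom Z (Algebra.TensorProduct.includeRight : C ⊗[A] C →ₐ[A] C ⊗[A] (C ⊗[A] C)).toRingHom u *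
        mapRingHom Z (Algebra.TensorProduct.map (AlgHom.id A C) Algebra.TensorProduct.includeLeft :
          C ⊗[A] C →ₐ[A] C ⊗[A] (C ⊗[A] C)).toRingHom u =
      mapRingHom Z (Algebra.TensorProduct.map (AlgHom.id A C) Algebra.TensorProduct.includeRight :
          C ⊗[A] C →ₐ[A] C ⊗[A] (C ⊗[A] C)).toRingHom u * uc := by
  classical
  let O := ∀ i, R i
  haveI : Module.FinitePresentation A C := Module.FinitePresentation.of_finite_of_finitePresentation A C
  haveI : Module.Projective A C := Module.Flat.projective_of_finitePresentation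
  haveI : Module.FinitePresentation O A := Module.finitePresentation_of_projective O A
  letI : Algebra O C := ((algebraMap A C).comp (algebraMap O A)).toAlgebra
  haveI : IsScalarTower O A C := IsScalarTower.of_algebraMap_eq fun _ => rfl
  haveI : Module.Finite O (C ⊗[A] C) := Module.Finite.trans A (C ⊗[A] C)
  haveI : Module.Flat O (C ⊗[A] C) := Module.Flat.trans O A (C ⊗[A] C)
  haveI : Module.FinitePresentation A (C ⊗[A] C) := Module.finitePresentation_of_projective A (C ⊗[A] C)
  haveI : Module.FinitePresentation O (C ⊗[A] C) := Module.FinitePresentation.trans O (C ⊗[A] C) A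
  haveI : Module.Projective O (C ⊗[A] C) := Module.Flat.projective_of_finitePresentation
  haveI : Module.Flat O (C ⊗[A] (C ⊗[A] C)) := Module.Flat.trans O A (C ⊗[A] (C ⊗[A] C))
  haveI : Module.FinitePresentation A (C ⊗[A] (C ⊗[A] C)) :=
    Module.finitePresentation_of_projective A (C ⊗[A] (C ⊗[A] C))
  haveI : Module.FinitePresentation O (C ⊗[A] (C ⊗[A] C)) :=
    Module.FinitePresentation.trans O (C ⊗[A] (C ⊗[A] C)) A
  haveI : Module.Projective O (C ⊗[A] (C ⊗[A] C)) := Module.Flat.projective_of_finitePresentation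
  have hext : ∀ x y : C ⊗[A] C, (∀ i, algebraMap O (C ⊗[A] C) (del R i) * x =
      algebraMap O (C ⊗[A] C) (del R i) * y) → x = y := fun x y h =>
    sub_eq_zero.1 (smul_eq_zero_of_del (R := R) _ fun i => by rw [← smul_one_mul (del R i) (x - y), ← Algebra.algebraMap_eq_smul_one, mul_sub, h i, sub_self])
  have hext3 : ∀ x y : C ⊗[A] (C ⊗[A] C), (∀ i, algebraMap O (C ⊗[A] (C ⊗[A] C)) (del R i) * x =
      algebraMap O (C ⊗[A] (C ⊗[A] C)) (del R i) * y) → x = y := fun x y h =>
    sub_eq_zero.1 (smul_eq_zero_of_del (R := R) _ fun i => by rw [← smul_one_mul (del R i) (x - y), ← Algebra.algebraMap_eq_smul_one, mul_sub, h i, sub_self])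
  let N : ℕ := uc.coeff.support.sup fun m => (Multiplicative.toAdd m).natAbs
  -- the components are bounded
  have hbd : ∀ i (m : Z), N < (Multiplicative.toAdd m).natAbs →
      algebraMap O (C ⊗[A] C) (del R i) * (uv i).coeff m = 0 := by
    intro i m hm
    set x := algebraMap O (C ⊗[A] C) (del R i) * (uv i).coeff m with hx
    have hid : IsIdempotentElem x := by
      show _ * _ = _
      rw [hx, mul_mul_mul_comm, ← map_mul, (del_idem i).eq, (huv i).mul, if_pos rfl]
    have hmax : ∀ P : Ideal (C ⊗[A] C), P.IsMaximal → x ∈ P := by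
      intro P hP
      by_cases hPi : algebraMap O (C ⊗[A] C) (del R i) ∈ P
      · exact P.mul_mem_right _ hPi
      refine P.mul_mem_left _ (by_contra fun hum => ?_)
      have h2 : algebraMap A (C ⊗[A] C) (1 - algebraMap O A (del R i)) ∈ P := by
        have h3 : algebraMap O (C ⊗[A] C) (del R i) * algebraMap O (C ⊗[A] C) (1 - del R i) ∈ P := by
          rw [← map_mul, mul_sub, mul_one, (del_idem i).eq, sub_self, map_zero]; exact P.zero_mem
        have h4 := (hP.isPrime.mem_or_mem h3).resolve_left hPi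
        rwa [IsScalarTower.algebraMap_apply O A (C ⊗[A] C), map_sub (algebraMap O A), map_one] at h4
      have := natAbs_le_of_cocycle (huv i) huc _ (hv i) N (fun e he =>
        Finset.le_sup (f := fun m : Z => (Multiplicative.toAdd m).natAbs) (Finsupp.mem_support_iff.2 he)) P h2
        (fun P₁ P₂ m₁ m₂ e₁ e₂ => huniq i P₁ P₂ m₁ m₂ (by
          rw [← Ideal.mem_comap, e₁, map_sub, map_one]; exact h2) (e₁.trans e₂.symm)) m hum
      omega
    obtain ⟨c, hc⟩ := (show IsUnit (1 - x) from by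
      by_contra hnu
      obtain ⟨P, hP, hle⟩ := exists_max_ideal_of_mem_nonunits hnu
      exact hP.ne_top ((Ideal.eq_top_iff_one _).2 (by simpa using P.add_mem hle (hmax P hP)))).exists_left_inv
    have := congrArg (· * x) hc
    simp only [mul_assoc, sub_mul, one_mul, hid.eq, sub_self, mul_zero] at this
    exact this.symm
  choose g hg using fun m : Z => exists_glue (R := R) fun i => (uv i).coeff m
  let rng : Finset Z := (Finset.Icc (-(N : ℤ)) N).image Multiplicative.ofAdd
  let u : MonoidAlgebra (C ⊗[A] C) Z := ∑ m ∈ rng, MonoidAlgebra.single m (g m)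
  have hcoef : ∀ m, u.coeff m = if m ∈ rng then g m else 0 := fun m => by
    simp [u, MonoidAlgebra.coeff_sum, Finsupp.finset_sum_apply, Finsupp.single_apply]
  have hrng : ∀ m, m ∉ rng → N < (Multiplicative.toAdd m).natAbs := fun m hm => by
    by_contra h
    exact hm (Finset.mem_image.2 ⟨Multiplicative.toAdd m, Finset.mem_Icc.2 (by omega), rfl⟩)
  have hkey : ∀ i m, algebraMap O (C ⊗[A] C) (del R i) * u.coeff m =
      algebraMap O (C ⊗[A] C) (del R i) * (uv i).coeff m := fun i m => by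
    rw [hcoef]
    split_ifs with h
    · have := hg m i
      rwa [Algebra.smul_def, Algebra.smul_def] at this
    · rw [mul_zero, hbd i m (hrng m h)]
  have hkey' : ∀ i, dl (C ⊗[A] C) (algebraMap O A (del R i)) * u =
      dl (C ⊗[A] C) (algebraMap O A (del R i)) * uv i := fun i =>
    MonoidAlgebra.coeffEquiv.injective (Finsupp.ext fun m => by
      show (_ * u).coeff m = (_ * uv i).coeff m
      rw [coeff_dl_mul, coeff_dl_mul, ← IsScalarTower.algebraMap_apply O A (C ⊗[A] C)]
      exact hkey i m)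
  refine ⟨u, ⟨fun a b => hext _ _ fun i => ?_, ?_⟩, ?_⟩
  · have h := (huv i).mul a b
    have e : algebraMap O (C ⊗[A] C) (del R i) * (u.coeff a * u.coeff b) =
        algebraMap O (C ⊗[A] C) (del R i) * ((uv i).coeff a * (uv i).coeff b) := by
      rw [← mul_assoc, hkey i a, mul_assoc, mul_left_comm, hkey i b, mul_left_comm]
    rw [e, h]
    split_ifs
    · exact (hkey i a).symm
    · rfl
  · refine hext _ _ fun i => ?_
    have h := congrArg (MonoidAlgebra.lift (C ⊗[A] C) (C ⊗[A] C) Z (1 : Z →* C ⊗[A] C)) (hkey' i)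
    rw [map_mul, map_mul, ← sum_coeff_eq u, ← sum_coeff_eq (uv i), (huv i).sum] at h
    simp only [dl, MonoidAlgebra.lift_single, MonoidHom.one_apply, smul_eq_mul, mul_one] at h
    rw [← IsScalarTower.algebraMap_apply O A (C ⊗[A] C)] at h
    rw [mul_one]
    exact h
  · have key : ∀ (i : ι) (φ : C ⊗[A] C →ₐ[A] C ⊗[A] (C ⊗[A] C)),
        dl (C ⊗[A] (C ⊗[A] C)) (algebraMap O A (del R i)) * mapRingHom Z φ.toRingHom u =
          dl (C ⊗[A] (C ⊗[A] C)) (algebraMap O A (del R i)) * mapRingHom Z φ.toRingHom (uv i) := fun i φ => by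
      rw [← map_dl (algebraMap O A (del R i)) φ, ← map_mul, ← map_mul, hkey' i]
    have cast : ∀ (i : ι) (x y : MonoidAlgebra (C ⊗[A] (C ⊗[A] C)) Z) (m : Z),
        dl (C ⊗[A] (C ⊗[A] C)) (algebraMap O A (del R i)) * x =
          dl (C ⊗[A] (C ⊗[A] C)) (algebraMap O A (del R i)) * y →
        algebraMap O (C ⊗[A] (C ⊗[A] C)) (del R i) * x.coeff m =
          algebraMap O (C ⊗[A] (C ⊗[A] C)) (del R i) * y.coeff m := fun i x y m e => by
      have e' := congrArg (fun z : MonoidAlgebra (C ⊗[A] (C ⊗[A] C)) Z => z.coeff m) e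
      simp only [coeff_dl_mul] at e'
      rw [IsScalarTower.algebraMap_apply O A (C ⊗[A] (C ⊗[A] C))]
      exact e'
    have h4 : ∀ i, dl (C ⊗[A] (C ⊗[A] C)) (algebraMap O A (del R i)) *
        (mapRingHom Z (Algebra.TensorProduct.includeRight : C ⊗[A] C →ₐ[A] C ⊗[A] (C ⊗[A] C)).toRingHom u *
          mapRingHom Z (Algebra.TensorProduct.map (AlgHom.id A C) Algebra.TensorProduct.includeLeft :
            C ⊗[A] C →ₐ[A] C ⊗[A] (C ⊗[A] C)).toRingHom u) =
        dl (C ⊗[A] (C ⊗[A] C)) (algebraMap O A (del R i)) *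
        (mapRingHom Z (Algebra.TensorProduct.map (AlgHom.id A C) Algebra.TensorProduct.includeRight :
          C ⊗[A] C →ₐ[A] C ⊗[A] (C ⊗[A] C)).toRingHom u * uc) := fun i => by
      rw [← mul_assoc, key, mul_assoc, mul_left_comm, key, mul_left_comm, ← mul_assoc _ _ uc, key, mul_assoc]
      exact hv i
    refine MonoidAlgebra.coeffEquiv.injective (Finsupp.ext fun m => hext3 _ _ fun i => ?_)
    exact cast i _ _ m (h4 i)

end Groth.Agent.DualOv79
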