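import Groth.Agent.Adeq2Lib.AffineVanish

/-!
# Sections on the two sides of a clopen decomposition
-/

set_option autoImplicit false

universe u

open CategoryTheory Limits AlgebraicGeometry Opposite
open Groth.Agent.Adeq2Lib

namespace Groth.Agent.DualOv79

variable {X U U' : Scheme.{u}} (j : U ⟶ X)

/-- The part of a test object over an open piece. -/
noncomputable abbrev pc (W : Over X) : Over X := Over.mk (pullback.fst W.hom j ≫ W.hom)

/-- The inclusion of the part. -/
noncomputable abbrev pcι (W : Over X) : pc j W ⟶ W := Over.homMk (pullback.fst W.hom j)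

/-- The parts are functorial. -/
noncomputable def pcMap {W W' : Over X} (m : W' ⟶ W) : pc j W' ⟶ pc j W :=
  Over.homMk (pullback.lift (pullback.fst W'.hom j ≫ m.left) (pullback.snd W'.hom j) (by
    rw [Category.assoc, Over.w m, pullback.condition])) (by
    show _ ≫ pullback.fst W.hom j ≫ W.hom = _
    rw [pullback.lift_fst_assoc, Category.assoc, Over.w m]
    rfl)

theorem pcMap_ι {W W' : Over X} (m : W' ⟶ W) : pcMap j m ≫ pcι j W = pcι j W' ≫ m :=
  Over.OverMorphism.ext (pullback.lift_fst _ _ _)

/-- A decomposition of a scheme into two disjoint open pieces. -/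
structure IsClopenPair (j : U ⟶ X) (k : U' ⟶ X) : Prop where
  left : IsOpenImmersion j
  right : IsOpenImmersion k
  disjoint : ∀ a b, j a ≠ k b
  covers : ∀ x, x ∈ Set.range j ∨ x ∈ Set.range k

variable {j} {k : U' ⟶ X} (h : IsClopenPair j k)

namespace IsClopenPair

include h

theorem mem (W : Over X) :
    Sieve.generate (Presieve.ofArrows (fun i : Bool => (cond i (pc j W) (pc k W)).left)
      fun i : Bool => (Bool.rec (motive := fun i => cond i (pc j W) (pc k W) ⟶ W) (pcι k W) (pcι j W) i).left) ∈
      Scheme.fppfPrecoverage.toGrothendieck W.left := by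
  refine Precoverage.generate_mem_toGrothendieck (J := Scheme.precoverage (@Flat ⊓ @LocallyOfFinitePresentation)) ?_
  rw [Scheme.ofArrows_mem_precoverage_iff]
  haveI := h.left
  haveI := h.right
  refine ⟨fun w => ?_, fun i => ?_⟩
  · rcases h.covers (W.hom w) with ⟨a, ha⟩ | ⟨a, ha⟩
    · obtain ⟨z, hz, -⟩ := Scheme.Pullback.exists_preimage_pullback (f := W.hom) (g := j) w a ha.symm
      exact ⟨true, z, hz⟩
    · obtain ⟨z, hz, -⟩ := Scheme.Pullback.exists_preimage_pullback (f := W.hom) (g := k) w a ha.symm
      exact ⟨false, z, hz⟩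
  · cases i
    · exact ⟨inferInstanceAs (Flat (pullback.fst W.hom k)),
        inferInstanceAs (LocallyOfFinitePresentation (pullback.fst W.hom k))⟩
    · exact ⟨inferInstanceAs (Flat (pullback.fst W.hom j)),
        inferInstanceAs (LocallyOfFinitePresentation (pullback.fst W.hom j))⟩

theorem ext (F : AffVan.AbT X) {W : Over X} {x y : F.obj.obj (op W)}
    (h₁ : AffVan.rA F (pcι j W) x = AffVan.rA F (pcι j W) y)
    (h₂ : AffVan.rA F (pcι k W) x = AffVan.rA F (pcι k W) y) : x = y :=
  AffVan.eq_of_cover F _ (fun i : Bool => Bool.rec (motive := fun i => cond i (pc j W) (pc k W) ⟶ W) (pcι k W) (pcι j W) i)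
    (h.mem W) x y fun i => by cases i <;> assumption

theorem exists_extend (F : AffVan.AbT X) {W : Over X} (y : F.obj.obj (op (pc j W))) :
    ∃ x, AffVan.rA F (pcι j W) x = y ∧ AffVan.rA F (pcι k W) x = 0 := by
  haveI := h.left
  haveI := h.right
  have hne : ∀ {V : Over X} (p : V ⟶ pc j W) (q : V ⟶ pc k W), p ≫ pcι j W = q ≫ pcι k W → IsEmpty V.left :=
    fun {V} p q hpq => ⟨fun v => h.disjoint (pullback.snd W.hom j (p.left v)) (pullback.snd W.hom k (q.left v)) (by
      have e : (p.left ≫ pullback.fst W.hom j) ≫ W.hom = (q.left ≫ pullback.fst W.hom k) ≫ W.hom :=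
        congrArg (· ≫ W.hom) (congrArg Over.Hom.left hpq)
      rw [Category.assoc, pullback.condition, Category.assoc, pullback.condition] at e
      exact congrArg (fun m : V.left ⟶ X => m v) e)⟩
  obtain ⟨x, hx⟩ := AffVan.glueA F _ (fun i : Bool => Bool.rec (motive := fun i => cond i (pc j W) (pc k W) ⟶ W)
    (pcι k W) (pcι j W) i) (h.mem W)
    (fun i => Bool.rec (motive := fun i => F.obj.obj (op (cond i (pc j W) (pc k W)))) 0 y i)
    fun i i' V p q hpq => by
      cases i <;> cases i'
      · exact (map_zero _).trans (map_zero _).symm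
      · haveI := hne q p hpq.symm
        exact AffVan.eq_of_isEmpty F _ _
      · haveI := hne p q hpq
        exact AffVan.eq_of_isEmpty F _ _
      · have e := congrArg Over.Hom.left hpq
        haveI : IsOpenImmersion (pullback.fst W.hom j) := inferInstance
        have : p.left ≫ pullback.fst W.hom j = q.left ≫ pullback.fst W.hom j := e
        rw [cancel_mono] at this
        rw [Over.OverMorphism.ext this]
  exact ⟨x, hx true, hx false⟩

/-- The part of a section over the first piece, extended by zero. -/
noncomputable def part (F : AffVan.AbT X) : F ⟶ F :=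
  ⟨{ app := fun W => AddCommGrpCat.ofHom (AddMonoidHom.mk'
        (fun x => (h.exists_extend F (AffVan.rA F (pcι j W.unop) x)).choose) fun x y => by
        refine h.ext F ?_ ?_
        · exact ((h.exists_extend F _).choose_spec.1).trans ((map_add _ _ _).trans ((congrArg₂ (· + ·)
            (h.exists_extend F _).choose_spec.1.symm (h.exists_extend F _).choose_spec.1.symm).trans
            (map_add (AffVan.rA F (pcι j W.unop)) _ _).symm))
        · exact ((h.exists_extend F _).choose_spec.2).trans (((add_zero 0).symm.trans (congrArg₂ (· + ·)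
            (h.exists_extend F _).choose_spec.2.symm (h.exists_extend F _).choose_spec.2.symm)).trans
            (map_add (AffVan.rA F (pcι k W.unop)) _ _).symm))
     naturality := fun W W' m => AddCommGrpCat.ext fun x => by
      show (h.exists_extend F (AffVan.rA F (pcι j W'.unop) (AffVan.rA F m.unop x))).choose =
        AffVan.rA F m.unop (h.exists_extend F (AffVan.rA F (pcι j W.unop) x)).choose
      refine h.ext F ?_ ?_
      · rw [(h.exists_extend F _).choose_spec.1, AffVan.rA_comp, AffVan.rA_comp, ← pcMap_ι j m.unop,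
          ← AffVan.rA_comp, ← AffVan.rA_comp, (h.exists_extend F _).choose_spec.1]
      · rw [(h.exists_extend F _).choose_spec.2, AffVan.rA_comp, ← pcMap_ι k m.unop, ← AffVan.rA_comp,
          (h.exists_extend F _).choose_spec.2, map_zero] }⟩

theorem part_left (F : AffVan.AbT X) {W : Over X} (x : F.obj.obj (op W)) :
    AffVan.rA F (pcι j W) (((h.part F).hom.app (op W)).hom x) = AffVan.rA F (pcι j W) x :=
  (h.exists_extend F (AffVan.rA F (pcι j W) x)).choose_spec.1

theorem part_right (F : AffVan.AbT X) {W : Over X} (x : F.obj.obj (op W)) :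
    AffVan.rA F (pcι k W) (((h.part F).hom.app (op W)).hom x) = 0 :=
  (h.exists_extend F (AffVan.rA F (pcι j W) x)).choose_spec.2

theorem part_natural {F G : AffVan.AbT X} (φ : F ⟶ G) {W : Over X} (x : F.obj.obj (op W)) :
    ((h.part G).hom.app (op W)).hom ((φ.hom.app (op W)).hom x) =
      (φ.hom.app (op W)).hom (((h.part F).hom.app (op W)).hom x) := by
  have e : ∀ {V : Over X} (m : V ⟶ W) (z : F.obj.obj (op W)),
      AffVan.rA G m ((φ.hom.app (op W)).hom z) = (φ.hom.app (op V)).hom (AffVan.rA F m z) := fun m z =>
    (ConcreteCategory.congr_hom (φ.hom.naturality m.op) z).symm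
  refine h.ext G ?_ ?_
  · rw [h.part_left, e, e, h.part_left]
  · rw [h.part_right, e, h.part_right, map_zero]

end IsClopenPair

end Groth.Agent.DualOv79
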