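import Groth.Agent.DualGm79.Coef
import Mathlib.RingTheory.Ideal.GoingUp
import Mathlib.RingTheory.IntegralClosure.IsIntegralClosure.Basic

/-!
# Integer valued cocycles of a finite algebra with one prime over each maximal ideal vanish
-/

set_option autoImplicit false

universe u

open TensorProduct MonoidAlgebra

namespace Groth.Agent.DualOv79

open Groth.Agent.DualGm79

section Omega

variable {A C Ω : Type u} [CommRing A] [CommRing C] [Algebra A C] [Field Ω] [Algebra A Ω]
  {n : Ideal A} [n.IsMaximal]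

/-- The kernel of a point of an integral algebra in a field lies over the kernel downstairs. -/
theorem isMaximal_ker [Algebra.IsIntegral A C] (hn : RingHom.ker (algebraMap A Ω) = n) (σ : C →ₐ[A] Ω) :
    (RingHom.ker σ).IsMaximal ∧ (RingHom.ker σ).comap (algebraMap A C) = n := by
  haveI : (RingHom.ker σ).IsPrime := RingHom.ker_isPrime _
  have hc : (RingHom.ker σ).comap (algebraMap A C) = n := by
    rw [← hn]; ext x; simp [RingHom.mem_ker]
  exact ⟨Ideal.isMaximal_of_isIntegral_of_isMaximal_comap _ (by rwa [hc]), hc⟩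

/-- Two points with the same kernel in an algebraic closure of the residue field are conjugate. -/
theorem exists_conj [IsAlgClosed Ω] [Algebra (A ⧸ n) Ω] [IsScalarTower A (A ⧸ n) Ω]
    [Algebra.IsAlgebraic (A ⧸ n) Ω] [Algebra.IsIntegral A C] (σ τ : C →ₐ[A] Ω)
    (hker : RingHom.ker σ = RingHom.ker τ) : ∃ γ : Ω →ₐ[A] Ω, ∀ x, γ (σ x) = τ x := by
  letI : Field (A ⧸ n) := Ideal.Quotient.field n
  have hn : RingHom.ker (algebraMap A Ω) = n := by
    rw [IsScalarTower.algebraMap_eq A (A ⧸ n) Ω,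
      RingHom.ker_comp_of_injective _ (algebraMap (A ⧸ n) Ω).injective]
    exact Ideal.mk_ker
  obtain ⟨hmax, hc⟩ := isMaximal_ker hn σ
  letI : Field (C ⧸ RingHom.ker σ) := Ideal.Quotient.field _
  haveI : (RingHom.ker σ).LiesOver n := ⟨hc.symm⟩
  let mk : ∀ ρ : C →ₐ[A] Ω, RingHom.ker σ ≤ RingHom.ker ρ → (C ⧸ RingHom.ker σ) →ₐ[A ⧸ n] Ω := fun ρ h =>
    { Ideal.Quotient.lift (RingHom.ker σ) ρ.toRingHom h with
      commutes' := fun r => by
        obtain ⟨a, rfl⟩ := Ideal.Quotient.mk_surjective r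
        show Ideal.Quotient.lift (RingHom.ker σ) ρ.toRingHom h
            (algebraMap (A ⧸ n) _ (algebraMap A (A ⧸ n) a)) = algebraMap (A ⧸ n) Ω (algebraMap A (A ⧸ n) a)
        rw [← IsScalarTower.algebraMap_apply, ← IsScalarTower.algebraMap_apply]
        exact ρ.commutes a }
  letI : Algebra (C ⧸ RingHom.ker σ) Ω := (mk σ le_rfl).toRingHom.toAlgebra
  haveI : IsScalarTower (A ⧸ n) (C ⧸ RingHom.ker σ) Ω :=
    IsScalarTower.of_algebraMap_eq fun x => ((mk σ le_rfl).commutes x).symm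
  haveI : Normal (A ⧸ n) Ω := normal_iff.2 fun x =>
    ⟨Algebra.IsIntegral.isIntegral x, IsAlgClosed.splits _⟩
  let γ : Ω →ₐ[A ⧸ n] Ω := AlgHom.liftNormal (mk τ hker.le) Ω
  exact ⟨γ.restrictScalars A, fun x => AlgHom.liftNormal_commutes (mk τ hker.le) Ω (Ideal.Quotient.mk _ x)⟩

end Omega

/-- An additive cocycle with values in the integers is trivial at a point below which the algebra has one maximal
ideal. -/
theorem coeff_one_notMem {A C : Type u} [CommRing A] [CommRing C] [Algebra A C] [Module.Finite A C]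
    {u : MonoidAlgebra (C ⊗[A] C) Z} (hu : IsGL u)
    (h : mapRingHom Z (Algebra.TensorProduct.includeRight : C ⊗[A] C →ₐ[A] C ⊗[A] (C ⊗[A] C)).toRingHom u *
        mapRingHom Z (Algebra.TensorProduct.map (AlgHom.id A C) Algebra.TensorProduct.includeLeft :
          C ⊗[A] C →ₐ[A] C ⊗[A] (C ⊗[A] C)).toRingHom u =
      mapRingHom Z (Algebra.TensorProduct.map (AlgHom.id A C) Algebra.TensorProduct.includeRight :
          C ⊗[A] C →ₐ[A] C ⊗[A] (C ⊗[A] C)).toRingHom u)
    (P : Ideal (C ⊗[A] C)) [P.IsMaximal]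
    (huniq : ∀ P₁ P₂ : Ideal C, P₁.IsMaximal → P₂.IsMaximal →
      P₁.comap (algebraMap A C) = P.comap (algebraMap A (C ⊗[A] C)) →
      P₂.comap (algebraMap A C) = P.comap (algebraMap A (C ⊗[A] C)) → P₁ = P₂) : u.coeff 1 ∉ P := by
  classical
  intro hmemP
  let n := P.comap (algebraMap A (C ⊗[A] C))
  haveI : n.IsMaximal := Ideal.isMaximal_comap_of_isIntegral_of_isMaximal P
  letI : Field (A ⧸ n) := Ideal.Quotient.field n
  let Ω := AlgebraicClosure (A ⧸ n)
  have hn : RingHom.ker (algebraMap A Ω) = n := by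
    rw [IsScalarTower.algebraMap_eq A (A ⧸ n) Ω,
      RingHom.ker_comp_of_injective _ (algebraMap (A ⧸ n) Ω).injective]
    exact Ideal.mk_ker
  let d : (C ⊗[A] C →ₐ[A] Ω) → Z := fun ψ => (hu.exists_unique_deg ψ.toRingHom).choose
  have hd : ∀ ψ : C ⊗[A] C →ₐ[A] Ω, mapRingHom Z ψ.toRingHom u = MonoidAlgebra.single (d ψ) 1 :=
    fun ψ => (hu.exists_unique_deg ψ.toRingHom).choose_spec
  have hdouble : ∀ ψ, ∃ ψ' : C ⊗[A] C →ₐ[A] Ω, d ψ' = d ψ * d ψ := by
    intro ψ
    let σ : C →ₐ[A] Ω := ψ.comp Algebra.TensorProduct.includeLeft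
    let τ : C →ₐ[A] Ω := ψ.comp Algebra.TensorProduct.includeRight
    have hψ : ψ = Algebra.TensorProduct.productMap σ τ := Algebra.TensorProduct.ext' fun a b => by
      simp [σ, τ, ← map_mul]
    obtain ⟨hσ, hσc⟩ := isMaximal_ker hn σ
    obtain ⟨hτ, hτc⟩ := isMaximal_ker hn τ
    obtain ⟨γ, hγ⟩ := exists_conj (n := n) σ τ (huniq _ _ hσ hτ hσc hτc)
    let Ψ : C ⊗[A] (C ⊗[A] C) →ₐ[A] Ω :=
      Algebra.TensorProduct.productMap σ (Algebra.TensorProduct.productMap τ (γ.comp τ))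
    refine ⟨Ψ.comp (Algebra.TensorProduct.map (AlgHom.id A C) Algebra.TensorProduct.includeRight), ?_⟩
    have h₀ : Ψ.comp (Algebra.TensorProduct.includeRight : C ⊗[A] C →ₐ[A] C ⊗[A] (C ⊗[A] C)) = γ.comp ψ := by
      rw [hψ]
      refine Algebra.TensorProduct.ext' fun a b => ?_
      simp [Ψ, hγ]
    have h₂ : Ψ.comp (Algebra.TensorProduct.map (AlgHom.id A C)
        (Algebra.TensorProduct.includeLeft : C →ₐ[A] C ⊗[A] C)) = ψ := by
      rw [hψ]
      refine Algebra.TensorProduct.ext' fun a b => ?_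
      simp [Ψ]
    have hmap : ∀ φ : C ⊗[A] C →ₐ[A] C ⊗[A] (C ⊗[A] C),
        mapRingHom Z Ψ.toRingHom (mapRingHom Z φ.toRingHom u) = mapRingHom Z (Ψ.comp φ).toRingHom u := fun φ =>
      MonoidAlgebra.coeffEquiv.injective (Finsupp.ext fun m => by simp)
    have hγd : mapRingHom Z (γ.comp ψ).toRingHom u = MonoidAlgebra.single (d ψ) 1 := by
      have h1 : mapRingHom Z (γ.comp ψ).toRingHom u = mapRingHom Z γ.toRingHom (mapRingHom Z ψ.toRingHom u) :=
        MonoidAlgebra.coeffEquiv.injective (Finsupp.ext fun m => by simp)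
      rw [h1, hd]
      simp
    have h' := congrArg (mapRingHom Z Ψ.toRingHom) h
    rw [map_mul, hmap, hmap, hmap, h₀, h₂, hγd, hd, hd, MonoidAlgebra.single_mul_single, one_mul] at h'
    exact (MonoidAlgebra.single_left_injective one_ne_zero h'.symm)
  have hd1 : ∀ ψ, d ψ = 1 := by
    intro ψ
    by_contra hne
    have hchain : ∀ j : ℕ, ∃ ψ', d ψ' = d ψ ^ (2 ^ j) := by
      intro j
      induction j with
      | zero => exact ⟨ψ, (pow_one _).symm⟩
      | succ j ih =>
        obtain ⟨ψ', h'⟩ := ih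
        obtain ⟨ψ'', h''⟩ := hdouble ψ'
        exact ⟨ψ'', by rw [h'', h', ← pow_add, pow_succ, mul_two]⟩
    have hinf : Function.Injective fun j : ℕ => d ψ ^ (2 ^ j) := by
      intro a b hab
      have h3 : (2 ^ a : ℕ) * Multiplicative.toAdd (d ψ) = (2 ^ b : ℕ) * Multiplicative.toAdd (d ψ) := by
        simpa [toAdd_pow] using congrArg Multiplicative.toAdd hab
      have h4 : Multiplicative.toAdd (d ψ) ≠ 0 := fun h => hne (Multiplicative.toAdd.injective h)
      exact Nat.pow_right_injective le_rfl (by exact_mod_cast mul_right_cancel₀ h4 h3)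
    exact (Set.infinite_range_of_injective hinf) (u.coeff.support.finite_toSet.subset (by
      rintro _ ⟨j, rfl⟩
      obtain ⟨ψ', h'⟩ := hchain j
      show d ψ ^ 2 ^ j ∈ _
      rw [← h', Finset.mem_coe, Finsupp.mem_support_iff]
      intro h0
      have := congrArg (fun x => x.coeff (d ψ')) (hd ψ')
      simp [h0] at this))
  letI : Field ((C ⊗[A] C) ⧸ P) := Ideal.Quotient.field P
  haveI : P.LiesOver n := ⟨rfl⟩
  haveI : Module.Finite (A ⧸ n) ((C ⊗[A] C) ⧸ P) := Module.Finite.of_restrictScalars_finite A _ _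
  let ψ : C ⊗[A] C →ₐ[A] Ω :=
    ((IsAlgClosed.lift : (C ⊗[A] C) ⧸ P →ₐ[A ⧸ n] Ω).restrictScalars A).comp (Ideal.Quotient.mkₐ A P)
  have := congrArg (fun x => x.coeff 1) (hd ψ)
  simp [hd1 ψ, ψ, Ideal.Quotient.eq_zero_iff_mem.2 hmemP] at this

/-- An additive cocycle with values in the integers vanishes on a finite algebra with one maximal ideal over each
maximal ideal of the base. -/
theorem eq_one_of_cocycle {A C : Type u} [CommRing A] [CommRing C] [Algebra A C] [Module.Finite A C]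
    (huniq : ∀ P Q : Ideal C, P.IsMaximal → Q.IsMaximal →
      P.comap (algebraMap A C) = Q.comap (algebraMap A C) → P = Q)
    {u : MonoidAlgebra (C ⊗[A] C) Z} (hu : IsGL u)
    (h : mapRingHom Z (Algebra.TensorProduct.includeRight : C ⊗[A] C →ₐ[A] C ⊗[A] (C ⊗[A] C)).toRingHom u *
        mapRingHom Z (Algebra.TensorProduct.map (AlgHom.id A C) Algebra.TensorProduct.includeLeft :
          C ⊗[A] C →ₐ[A] C ⊗[A] (C ⊗[A] C)).toRingHom u =
      mapRingHom Z (Algebra.TensorProduct.map (AlgHom.id A C) Algebra.TensorProduct.includeRight :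
          C ⊗[A] C →ₐ[A] C ⊗[A] (C ⊗[A] C)).toRingHom u) : u = 1 :=
  hu.eq_one fun P₀ hP₀ hmem => by
    obtain ⟨P, hP, hle⟩ := Ideal.exists_le_maximal P₀ hP₀.ne_top
    exact coeff_one_notMem hu h P (fun P₁ P₂ h₁ h₂ e₁ e₂ => huniq P₁ P₂ h₁ h₂ (e₁.trans e₂.symm)) (hle hmem)

end Groth.Agent.DualOv79
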