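import Groth.Agent.GmField79.HOne

/-!
# The triple product of an affine covering object
-/

set_option autoImplicit false

universe u

open CategoryTheory Limits AlgebraicGeometry Opposite TensorProduct
open Groth.Agent.Adeq2Lib
open CechSingle CechAffine

namespace Groth.Agent.DualOv79

variable (A : Type u) [CommRing A] (C D : Type u) [CommRing C] [Algebra A C] [CommRing D] [Algebra A D]

/-- The first projection of a tensor product. -/
noncomputable abbrev spFst : sp (CommRingCat.of A) (Adeq.algOf (CommRingCat.of A) (C ⊗[A] D)) ⟶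
    sp (CommRingCat.of A) (Adeq.algOf (CommRingCat.of A) C) :=
  spMap _ (CommAlgCat.ofHom Algebra.TensorProduct.includeLeft)

/-- The second projection of a tensor product. -/
noncomputable abbrev spSnd : sp (CommRingCat.of A) (Adeq.algOf (CommRingCat.of A) (C ⊗[A] D)) ⟶
    sp (CommRingCat.of A) (Adeq.algOf (CommRingCat.of A) D) :=
  spMap _ (CommAlgCat.ofHom Algebra.TensorProduct.includeRight)

theorem isPullback_spec_tensor : IsPullback
    (Spec.map (CommRingCat.ofHom (Algebra.TensorProduct.includeLeftRingHom : C →+* C ⊗[A] D)))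
    (Spec.map (CommRingCat.ofHom (Algebra.TensorProduct.includeRight.toRingHom : D →+* C ⊗[A] D)))
    (Spec.map (CommRingCat.ofHom (algebraMap A C))) (Spec.map (CommRingCat.ofHom (algebraMap A D))) :=
  isPullback_SpecMap_of_isPushout _ _ _ _ (CommRingCat.isPushout_tensorProduct A C D)

variable {A C D}

theorem exists_pair {W : Over (Spec (CommRingCat.of A))}
    (p : W ⟶ sp (CommRingCat.of A) (Adeq.algOf (CommRingCat.of A) C))
    (q : W ⟶ sp (CommRingCat.of A) (Adeq.algOf (CommRingCat.of A) D)) :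
    ∃ r, r ≫ spFst A C D = p ∧ r ≫ spSnd A C D = q := by
  have hp := Over.w p
  have hq := Over.w q
  rw [sp_hom] at hp hq
  let L := (isPullback_spec_tensor A C D).lift p.left q.left (hp.trans hq.symm)
  refine ⟨Over.homMk L ?_, Over.OverMorphism.ext ((isPullback_spec_tensor A C D).lift_fst _ _ _),
    Over.OverMorphism.ext ((isPullback_spec_tensor A C D).lift_snd _ _ _)⟩
  rw [sp_hom]
  refine Eq.trans ?_ hp
  refine Eq.trans ?_ (congrArg (· ≫ Spec.map (CommRingCat.ofHom (algebraMap A C)))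
    ((isPullback_spec_tensor A C D).lift_fst p.left q.left (hp.trans hq.symm)))
  rw [Category.assoc, ← Spec.map_comp]
  exact congrArg (fun w => L ≫ Spec.map w) (CommRingCat.hom_ext (RingHom.ext fun c => rfl))

theorem pair_ext {W : Over (Spec (CommRingCat.of A))}
    {r r' : W ⟶ sp (CommRingCat.of A) (Adeq.algOf (CommRingCat.of A) (C ⊗[A] D))}
    (h₁ : r ≫ spFst A C D = r' ≫ spFst A C D) (h₂ : r ≫ spSnd A C D = r' ≫ spSnd A C D) : r = r' :=
  Over.OverMorphism.ext ((isPullback_spec_tensor A C D).hom_ext (congrArg Over.Hom.left h₁) (congrArg Over.Hom.left h₂))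

variable (A C)

/-- The triple product of the covering object. -/
noncomputable def cube : sp (CommRingCat.of A) (Adeq.algOf (CommRingCat.of A) (C ⊗[A] (C ⊗[A] C))) ⟶
    pw (X₀ (R := CommRingCat.of A) C) 2 :=
  Pi.lift ![spFst A C (C ⊗[A] C), spSnd A C (C ⊗[A] C) ≫ spFst A C C, spSnd A C (C ⊗[A] C) ≫ spSnd A C C]

theorem cube_π_zero : cube A C ≫ Pi.π (fun _ : Fin 3 => X₀ (R := CommRingCat.of A) C) (0 : Fin 3) =
    spFst A C (C ⊗[A] C) := by
  rw [cube, Pi.lift_π]; rfl

theorem cube_π_one : cube A C ≫ Pi.π (fun _ : Fin 3 => X₀ (R := CommRingCat.of A) C) (1 : Fin 3) =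
    spSnd A C (C ⊗[A] C) ≫ spFst A C C := by
  rw [cube, Pi.lift_π]; rfl

theorem cube_π_two : cube A C ≫ Pi.π (fun _ : Fin 3 => X₀ (R := CommRingCat.of A) C) (2 : Fin 3) =
    spSnd A C (C ⊗[A] C) ≫ spSnd A C C := by
  rw [cube, Pi.lift_π]; rfl

instance isIso_cube : IsIso (cube A C) := by
  obtain ⟨q, hq₁, hq₂⟩ := exists_pair (Pi.π (fun _ : Fin 3 => X₀ (R := CommRingCat.of A) C) (1 : Fin 3))
    (Pi.π (fun _ : Fin 3 => X₀ (R := CommRingCat.of A) C) (2 : Fin 3))
  obtain ⟨r, hr₁, hr₂⟩ := exists_pair (Pi.π (fun _ : Fin 3 => X₀ (R := CommRingCat.of A) C) (0 : Fin 3)) q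
  refine ⟨r, pair_ext ?_ (pair_ext ?_ ?_), Pi.hom_ext _ _ fun k => ?_⟩
  · rw [Category.assoc, hr₁, cube_π_zero, Category.id_comp]
  · simp only [Category.assoc, Category.id_comp]
    rw [reassoc_of% hr₂, hq₁, cube_π_one]
  · simp only [Category.assoc, Category.id_comp]
    rw [reassoc_of% hr₂, hq₂, cube_π_two]
  · rw [Category.assoc, Category.id_comp]
    fin_cases k
    · exact (congrArg (r ≫ ·) (cube_π_zero A C)).trans hr₁
    · exact (congrArg (r ≫ ·) (cube_π_one A C)).trans (by rw [← Category.assoc, hr₂, hq₁]; rfl)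
    · exact (congrArg (r ≫ ·) (cube_π_two A C)).trans (by rw [← Category.assoc, hr₂, hq₂]; rfl)

theorem cube_fc_zero : cube A C ≫ fc (X₀ (R := CommRingCat.of A) C) (0 : Fin 3) =
    spMap (CommRingCat.of A) (CommAlgCat.ofHom (Algebra.TensorProduct.includeRight :
      C ⊗[A] C →ₐ[A] C ⊗[A] (C ⊗[A] C))) ≫ GmField79.sq (R := CommRingCat.of A) C := by
  refine Pi.hom_ext _ _ fun j => ?_
  rw [Category.assoc, Category.assoc, fc_π]
  fin_cases j
  · exact (cube_π_one A C).trans (congrArg (_ ≫ ·) (GmField79.sq_π_zero C).symm)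
  · exact (cube_π_two A C).trans (congrArg (_ ≫ ·) (GmField79.sq_π_one C).symm)

theorem cube_fc_one : cube A C ≫ fc (X₀ (R := CommRingCat.of A) C) (1 : Fin 3) =
    spMap (CommRingCat.of A) (CommAlgCat.ofHom (Algebra.TensorProduct.map (AlgHom.id A C)
      Algebra.TensorProduct.includeRight : C ⊗[A] C →ₐ[A] C ⊗[A] (C ⊗[A] C))) ≫
        GmField79.sq (R := CommRingCat.of A) C := by
  refine Pi.hom_ext _ _ fun j => ?_
  rw [Category.assoc, Category.assoc, fc_π]
  fin_cases j
  · refine (cube_π_zero A C).trans ?_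
    refine Eq.trans ?_ (congrArg (_ ≫ ·) (GmField79.sq_π_zero C).symm)
    rw [spMap, ← Functor.map_comp, ← op_comp]
    exact congrArg (fun w => spMap (CommRingCat.of A) w) (CommAlgCat.hom_ext (AlgHom.ext fun c => rfl))
  · refine (cube_π_two A C).trans ?_
    refine Eq.trans ?_ (congrArg (_ ≫ ·) (GmField79.sq_π_one C).symm)
    rw [spSnd, spSnd, spMap, spMap, ← Functor.map_comp, ← op_comp, ← Functor.map_comp, ← op_comp]
    exact congrArg (fun w => spMap (CommRingCat.of A) w) (CommAlgCat.hom_ext (AlgHom.ext fun c => rfl))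

theorem cube_fc_two : cube A C ≫ fc (X₀ (R := CommRingCat.of A) C) (2 : Fin 3) =
    spMap (CommRingCat.of A) (CommAlgCat.ofHom (Algebra.TensorProduct.map (AlgHom.id A C)
      Algebra.TensorProduct.includeLeft : C ⊗[A] C →ₐ[A] C ⊗[A] (C ⊗[A] C))) ≫
        GmField79.sq (R := CommRingCat.of A) C := by
  refine Pi.hom_ext _ _ fun j => ?_
  rw [Category.assoc, Category.assoc, fc_π]
  fin_cases j
  · refine (cube_π_zero A C).trans ?_
    refine Eq.trans ?_ (congrArg (_ ≫ ·) (GmField79.sq_π_zero C).symm)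
    rw [spMap, ← Functor.map_comp, ← op_comp]
    exact congrArg (fun w => spMap (CommRingCat.of A) w) (CommAlgCat.hom_ext (AlgHom.ext fun c => rfl))
  · refine (cube_π_one A C).trans ?_
    refine Eq.trans ?_ (congrArg (_ ≫ ·) (GmField79.sq_π_one C).symm)
    rw [spSnd, spFst, spMap, spMap, ← Functor.map_comp, ← op_comp, ← Functor.map_comp, ← op_comp]
    exact congrArg (fun w => spMap (CommRingCat.of A) w) (CommAlgCat.hom_ext (AlgHom.ext fun c => rfl))

end Groth.Agent.DualOv79
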