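import Groth.Agent.DualNorm79.Main
import Mathlib.CategoryTheory.Sites.EpiMono

/-!
# Direct images along finite étale morphisms preserve epimorphisms of fppf sheaves
-/

set_option autoImplicit false

universe u v w

open CategoryTheory Limits AlgebraicGeometry Opposite
open Groth.Agent.Adeq2Lib Groth.Agent.DualNorm79

namespace Groth.Agent.DualOv79

theorem mem_iInf_fin {C : Type w} [Category.{v} C] (J : GrothendieckTopology C) {U : C} :
    ∀ (n : ℕ) (S : Fin n → Sieve U), (∀ i, S i ∈ J U) → ∃ R ∈ J U, ∀ i, R ≤ S i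
  | 0, _, _ => ⟨⊤, J.top_mem U, fun i => i.elim0⟩
  | n + 1, S, h => by
    obtain ⟨R, hR, hle⟩ := mem_iInf_fin J n (fun i => S i.succ) fun i => h _
    exact ⟨S 0 ⊓ R, J.intersection_covering (h 0) hR, Fin.cases inf_le_left fun i => inf_le_right.trans (hle i)⟩

variable {X X' : Scheme.{u}} (f : X' ⟶ X) [IsFinite f] [Etale f]

/-- Direct image along a finite étale morphism preserves epimorphisms. -/
theorem epi_pushS {F G : AffVan.AbT X'} (g : F ⟶ G) [Epi g] :
    Epi ((BigSite.pushBig Scheme.fppfPrecoverage f AddCommGrpCat.{u + 1}).map g) := by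
  refine (Sheaf.isLocallySurjective_iff_epi' AddCommGrpCat.{u + 1} _).1 ⟨fun {T} q => ?_⟩
  have hloc := (Sheaf.isLocallySurjective_iff_epi' AddCommGrpCat.{u + 1} g).2 inferInstance
  let g' := (BigSite.pushBig Scheme.fppfPrecoverage f AddCommGrpCat.{u + 1}).map g
  -- over test objects where the base change splits
  have hsplit : ∀ (T : Over X) (_ : Splitting f T) (q : (pushS f G).obj.obj (op T)),
      Presheaf.imageSieve g'.hom q ∈ QuotSh.J Scheme.fppfPrecoverage X T := by
    intro T s q
    have hS : ∀ i, Sieve.overEquiv (s.piece i) (Presheaf.imageSieve g.hom (AffVan.rA G (s.incl i) q)) ∈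
        Scheme.fppfPrecoverage.toGrothendieck T.left := fun i => hloc.imageSieve_mem (AffVan.rA G (s.incl i) q)
    obtain ⟨R₀, hR₀, hle⟩ := mem_iInf_fin Scheme.fppfPrecoverage.toGrothendieck s.n _ hS
    refine GrothendieckTopology.superset_covering _ (S := (Sieve.overEquiv T).symm R₀) ?_
      (show Sieve.overEquiv T ((Sieve.overEquiv T).symm R₀) ∈ Scheme.fppfPrecoverage.toGrothendieck T.left by
        simpa using hR₀)
    intro U m hm
    have hm' : R₀ m.left := (Sieve.overEquiv_symm_iff R₀ m).1 hm
    have hi : ∀ i, ∃ y, (g.hom.app (op ((s.comap m).piece i))).hom y =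
        AffVan.rA G (s.pieceMap m i) (AffVan.rA G (s.incl i) q) := fun i => by
      have h2 : (Sieve.overEquiv (s.piece i)).symm
          (Sieve.overEquiv (s.piece i) (Presheaf.imageSieve g.hom (AffVan.rA G (s.incl i) q))) (s.pieceMap m i) :=
        (Sieve.overEquiv_symm_iff _ (s.pieceMap m i)).2 (hle i _ hm')
      simpa [Presheaf.imageSieve_apply] using h2
    choose y hy using hi
    obtain ⟨x, hx⟩ := (s.comap m).exists_glue F y
    refine ⟨x, (s.comap m).ext_pieces G _ _ fun i => ?_⟩
    refine ((ConcreteCategory.congr_hom (g.hom.naturality ((s.comap m).incl i).op) x).symm).trans ?_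
    refine (congrArg (g.hom.app _).hom (hx i)).trans ((hy i).trans ?_)
    rw [AffVan.rA_comp, s.pieceMap_incl, ← AffVan.rA_comp]
    rfl
  refine (QuotSh.J Scheme.fppfPrecoverage X).transitive
    (((isCoverDense_splitObj f).is_cover T)) _ fun U h hh => ?_
  obtain ⟨⟨V, a, b, fac⟩⟩ := hh
  subst fac
  rw [Sieve.pullback_comp]
  refine (QuotSh.J Scheme.fppfPrecoverage X).pullback_stable a ?_
  rw [Presheaf.pullback_imageSieve]
  obtain ⟨s⟩ := V.property
  exact hsplit _ s _

end Groth.Agent.DualOv79
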