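import Groth.Agent.GmField79.HOne
import Groth.Agent.DualGm79.Univ
import Groth.Agent.DualOv79.Coef
import Groth.Agent.DualOv79.Refine

/-!
# The dual of the multiplicative group over finite algebras of henselian local rings
-/

set_option autoImplicit false

universe u

open CategoryTheory Limits AlgebraicGeometry Opposite Abelian TensorProduct
open Groth.Agent.Adeq2Lib Groth.Agent.DualNorm79
open Groth.Agent.DualGm79 (ucoef ucoef_res ucoef_add eq_zero_of_ucoef isGL_ucoef Z)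
open Groth.Agent.GmField79 (sq_π_zero sq_π_one exists_preimage subsingleton_H_one_of_lift)

namespace Groth.Agent.DualOv79

open AffVan CechSingle CechAffine

/-- Exactness of the Cech complex in degree one, in terms of tensor powers. -/
theorem ex_of_cocycle (k : Type u) [CommRing k] (B : Type u) [CommRing B] [Algebra k B]
    (G : (Over (Spec (CommRingCat.of k)))ᵒᵖ ⥤ AddCommGrpCat.{u + 1})
    (h : ∀ x' : G.obj (op (sp (CommRingCat.of k) (Adeq.algOf (CommRingCat.of k) (B ⊗[k] B)))),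
      (G.map (spMap (CommRingCat.of k) (CommAlgCat.ofHom (Algebra.TensorProduct.includeRight : B ⊗[k] B →ₐ[k] B ⊗[k] (B ⊗[k] B)) :
          Adeq.algOf (CommRingCat.of k) (B ⊗[k] B) ⟶ Adeq.algOf (CommRingCat.of k) (B ⊗[k] (B ⊗[k] B)))).op).hom x' +
        (G.map (spMap (CommRingCat.of k) (CommAlgCat.ofHom (Algebra.TensorProduct.map (AlgHom.id k B) Algebra.TensorProduct.includeLeft : B ⊗[k] B →ₐ[k] B ⊗[k] (B ⊗[k] B)) :
          Adeq.algOf (CommRingCat.of k) (B ⊗[k] B) ⟶ Adeq.algOf (CommRingCat.of k) (B ⊗[k] (B ⊗[k] B)))).op).hom x' =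
        (G.map (spMap (CommRingCat.of k) (CommAlgCat.ofHom (Algebra.TensorProduct.map (AlgHom.id k B) Algebra.TensorProduct.includeRight : B ⊗[k] B →ₐ[k] B ⊗[k] (B ⊗[k] B)) :
          Adeq.algOf (CommRingCat.of k) (B ⊗[k] B) ⟶ Adeq.algOf (CommRingCat.of k) (B ⊗[k] (B ⊗[k] B)))).op).hom x' →
      ∃ y : G.obj (op (sp (CommRingCat.of k) (Adeq.algOf (CommRingCat.of k) B))),
        (G.map (spMap (CommRingCat.of k) (CommAlgCat.ofHom Algebra.TensorProduct.includeRight :
          Adeq.algOf (CommRingCat.of k) B ⟶ Adeq.algOf (CommRingCat.of k) (B ⊗[k] B))).op).hom y =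
        x' + (G.map (spMap (CommRingCat.of k) (CommAlgCat.ofHom Algebra.TensorProduct.includeLeft :
          Adeq.algOf (CommRingCat.of k) B ⟶ Adeq.algOf (CommRingCat.of k) (B ⊗[k] B))).op).hom y) :
    Ex (X₀ (R := CommRingCat.of k) B) G 0 := by
  let R := CommRingCat.of k
  let X := X₀ (R := R) B
  let B₂ := Adeq.algOf R (B ⊗[k] B)
  let B₃ := Adeq.algOf R (B ⊗[k] (B ⊗[k] B))
  let δ₀ : B₂ ⟶ B₃ := CommAlgCat.ofHom (Algebra.TensorProduct.includeRight : B ⊗[k] B →ₐ[k] B ⊗[k] (B ⊗[k] B))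
  let δ₁ : B₂ ⟶ B₃ := CommAlgCat.ofHom (Algebra.TensorProduct.map (AlgHom.id k B) Algebra.TensorProduct.includeRight : B ⊗[k] B →ₐ[k] B ⊗[k] (B ⊗[k] B))
  let δ₂ : B₂ ⟶ B₃ := CommAlgCat.ofHom (Algebra.TensorProduct.map (AlgHom.id k B) Algebra.TensorProduct.includeLeft : B ⊗[k] B →ₐ[k] B ⊗[k] (B ⊗[k] B))
  let iL : Adeq.algOf R B ⟶ B₂ := CommAlgCat.ofHom Algebra.TensorProduct.includeLeft
  let iR : Adeq.algOf R B ⟶ B₂ := CommAlgCat.ofHom Algebra.TensorProduct.includeRight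
  let c₀ : Adeq.algOf R B ⟶ B₃ := iL ≫ δ₂
  let c₁ : Adeq.algOf R B ⟶ B₃ := iR ≫ δ₂
  let c₂ : Adeq.algOf R B ⟶ B₃ := iR ≫ δ₀
  have e₂₀ : iL ≫ δ₀ = c₁ := CommAlgCat.hom_ext (AlgHom.ext fun b => rfl)
  have e₁₀ : iL ≫ δ₁ = c₀ := CommAlgCat.hom_ext (AlgHom.ext fun b => rfl)
  have e₁₁ : iR ≫ δ₁ = c₂ := CommAlgCat.hom_ext (AlgHom.ext fun b => rfl)
  let m₃ : sp R B₃ ⟶ pw X 2 := Pi.lift ![spMap R c₀, spMap R c₁, spMap R c₂]
  have hs : ∀ {C D : Adeq.Alg R} (f : C ⟶ D) {E : Adeq.Alg R} (g : D ⟶ E),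
      spMap R g ≫ spMap R f = spMap R (f ≫ g) := fun f _ g => by
    rw [spMap, spMap, spMap, op_comp, Functor.map_comp]
  have f₀ : m₃ ≫ fc X (0 : Fin 3) = spMap R δ₀ ≫ GmField79.sq B := Pi.hom_ext _ _ fun j => by
    rw [Category.assoc, Category.assoc, fc_π, GmField79.sq, Pi.lift_π, Pi.lift_π]
    fin_cases j
    · exact ((hs iL δ₀).trans (congrArg (fun w => spMap R w) e₂₀)).symm
    · exact (hs iR δ₀).symm
  have f₁ : m₃ ≫ fc X (1 : Fin 3) = spMap R δ₁ ≫ GmField79.sq B := Pi.hom_ext _ _ fun j => by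
    rw [Category.assoc, Category.assoc, fc_π, GmField79.sq, Pi.lift_π, Pi.lift_π]
    fin_cases j
    · exact ((hs iL δ₁).trans (congrArg (fun w => spMap R w) e₁₀)).symm
    · exact ((hs iR δ₁).trans (congrArg (fun w => spMap R w) e₁₁)).symm
  have f₂ : m₃ ≫ fc X (2 : Fin 3) = spMap R δ₂ ≫ GmField79.sq B := Pi.hom_ext _ _ fun j => by
    rw [Category.assoc, Category.assoc, fc_π, GmField79.sq, Pi.lift_π, Pi.lift_π]
    fin_cases j
    · exact (hs iL δ₂).symm
    · exact (hs iR δ₂).symm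
  intro x hx
  let x' := (G.map (GmField79.sq (R := R) B).op).hom x
  have hD : (G.map (spMap R δ₀).op).hom x' + (G.map (spMap R δ₂).op).hom x' = (G.map (spMap R δ₁).op).hom x' := by
    have h := congrArg (G.map m₃.op).hom hx
    rw [D_apply, Fin.sum_univ_three, map_add, map_add, map_zero] at h
    simp only [Fin.val_zero, pow_zero, one_smul, Fin.val_one, pow_one, neg_smul, Fin.val_two, map_neg] at h
    rw [neg_one_sq, one_smul, map_comp_apply, map_comp_apply, map_comp_apply, f₀, f₁, f₂,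
      ← map_comp_apply, ← map_comp_apply, ← map_comp_apply] at h
    rw [← sub_eq_zero]
    convert h using 1
    abel
  obtain ⟨y₀, hy₀⟩ := h x' hD
  refine ⟨(G.map (Pi.π (fun _ : Fin 1 => X) 0).op).hom y₀, ?_⟩
  apply map_iso_injective (P := G) (GmField79.sq (R := R) B)
  have g₀ : (GmField79.sq (R := R) B ≫ fc X (0 : Fin 2)) ≫ Pi.π (fun _ : Fin 1 => X) 0 = spMap R iR := by
    rw [Category.assoc, fc_π, GmField79.sq, Pi.lift_π]; rfl
  have g₁ : (GmField79.sq (R := R) B ≫ fc X (1 : Fin 2)) ≫ Pi.π (fun _ : Fin 1 => X) 0 = spMap R iL := by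
    rw [Category.assoc, fc_π, GmField79.sq, Pi.lift_π]; rfl
  rw [D_apply, Fin.sum_univ_two, Fin.val_zero, pow_zero, one_smul, Fin.val_one, pow_one, neg_smul, one_smul, map_add,
    map_neg, map_comp_apply, map_comp_apply, map_comp_apply, map_comp_apply, g₀, g₁, ← sub_eq_add_neg, sub_eq_iff_eq_add]
  exact hy₀

/-- The Cech cocycles of the dual of the multiplicative group vanish for coverings with one maximal ideal over each
maximal ideal of the base. -/
theorem ex_dualGm (A C : Type u) [CommRing A] [CommRing C] [Algebra A C] [Module.Finite A C]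
    (huniq : ∀ P Q : Ideal C, P.IsMaximal → Q.IsMaximal →
      P.comap (algebraMap A C) = Q.comap (algebraMap A C) → P = Q)
    {S : Scheme.{u}} (a : Spec (CommRingCat.of A) ⟶ S) :
    Ex (X₀ (R := CommRingCat.of A) C)
      (pr ((BigSite.pullBig Scheme.fppfPrecoverage a AddCommGrpCat.{u + 1}).obj (dualS (GmS S))) (𝟙 _)) 0 := by
  refine ex_of_cocycle A C _ fun x' hD => ⟨0, ?_⟩
  rw [map_zero, map_zero, add_zero]
  let R := CommRingCat.of A
  let a₂ : Spec (CommRingCat.of (C ⊗[A] C)) ⟶ S := ((sp R (Adeq.algOf R (C ⊗[A] C))).hom ≫ 𝟙 (Spec R)) ≫ a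
  let a₃ : Spec (CommRingCat.of (C ⊗[A] (C ⊗[A] C))) ⟶ S := ((sp R (Adeq.algOf R (C ⊗[A] (C ⊗[A] C)))).hom ≫ 𝟙 (Spec R)) ≫ a
  let χ : (GmS S).over (Over.mk a₂) ⟶ (GmS S).over (Over.mk a₂) := x'
  have hm : ∀ φ : C ⊗[A] C →ₐ[A] C ⊗[A] (C ⊗[A] C),
      ucoef a₃ (AffVan.rA (dualS (GmS S)) ((Over.map a).map ((Over.map (𝟙 (Spec R))).map (spMap R (CommAlgCat.ofHom φ :
        Adeq.algOf R (C ⊗[A] C) ⟶ Adeq.algOf R (C ⊗[A] (C ⊗[A] C))))) : Over.mk a₃ ⟶ Over.mk a₂) χ) =
        MonoidAlgebra.mapRingHom Z φ.toRingHom (ucoef a₂ χ) :=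
    fun φ => ucoef_res χ _ φ.toRingHom rfl
  have h := congrArg (fun z => ucoef a₃ (z : (GmS S).over (Over.mk a₃) ⟶ (GmS S).over (Over.mk a₃))) hD
  have h1 := (ucoef_add (a := a₃) _ _).symm.trans h
  refine (eq_zero_of_ucoef χ (eq_one_of_cocycle huniq (isGL_ucoef χ) ?_)).symm
  rw [← hm, ← hm, ← hm]
  exact h1

/-- The dual of the multiplicative group has no first cohomology on a finite algebra over a henselian local ring. -/
theorem subsingleton_H_one_dualGm (R A : Type u) [CommRing R] [HenselianLocalRing R] [CommRing A] [Algebra R A]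
    [Module.Finite R A] {S : Scheme.{u}} (a : Spec (CommRingCat.of A) ⟶ S) :
    Subsingleton (BigSite.H Scheme.fppfPrecoverage (Spec (CommRingCat.of A))
      ((BigSite.pullBig Scheme.fppfPrecoverage a AddCommGrpCat.{u + 1}).obj (dualS (GmS S))) 1) :=
  subsingleton_H_one_of_lift _ _ fun E hE h₁ s => by
    haveI := hE.epi_g
    obtain ⟨B, iB, iA, iff', hlfp, t, ht⟩ := exists_lift_single (𝟙 (Spec (CommRingCat.of A))) E.g s
    letI : Algebra A B := iA
    haveI : Module.FaithfullyFlat A B := iff'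
    haveI : Algebra.FinitePresentation A B :=
      RingHom.finitePresentation_algebraMap.1 ((HasRingHomProperty.Spec_iff (P := @LocallyOfFinitePresentation)).1 hlfp)
    obtain ⟨C, _, _, hfin, hff, hfp, huniq, ⟨f⟩⟩ := exists_refinement R A B
    haveI : Module.FaithfullyFlat (CommRingCat.of A) C := hff
    haveI : LocallyOfFinitePresentation (Spec.map (CommRingCat.ofHom (algebraMap (CommRingCat.of A) C))) :=
      (HasRingHomProperty.Spec_iff (P := @LocallyOfFinitePresentation)).2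
        (RingHom.finitePresentation_algebraMap.2 hfp)
    let q : Adeq.algOf (CommRingCat.of A) B ⟶ Adeq.algOf (CommRingCat.of A) C := CommAlgCat.ofHom f
    let c : cov (𝟙 (Spec (CommRingCat.of A))) C ⟶ cov (𝟙 (Spec (CommRingCat.of A))) B :=
      (Over.map (𝟙 (Spec (CommRingCat.of A)))).map (spMap _ q)
    have hc : c ≫ covMap (𝟙 (Spec (CommRingCat.of A))) B = covMap (𝟙 (Spec (CommRingCat.of A))) C :=
      Over.OverMorphism.ext (Over.w (spMap (CommRingCat.of A) q))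
    refine exists_preimage _ E hE C (h₁ ▸ ex_dualGm A C huniq a) s (rA E.X₂ c t) ?_
    refine (ConcreteCategory.congr_hom (E.g.hom.naturality c.op) t).trans ?_
    refine (congrArg (rA E.X₃ c) ht).trans ?_
    rw [rA_comp, hc]

end Groth.Agent.DualOv79
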