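import Groth.Prelude.Def_AdFn
import Groth.Agent.Hensel.Local
import Mathlib.RingTheory.Henselian

/-!
# The valuation ring of the completion at a place is henselian
-/

set_option autoImplicit false

universe u

open IsLocalRing

namespace Groth.Agent.DualOv79

section Valued

variable {F : Type u} [Field F] [hV : Valued F (WithZero (Multiplicative ℤ))]


theorem mem_pow_span_iff {π : (Valued.v : Valuation F (WithZero (Multiplicative ℤ))).valuationSubring} (hπ : Valued.v (π : F) = WithZero.exp (-1 : ℤ)) (n : ℕ) (x : (Valued.v : Valuation F (WithZero (Multiplicative ℤ))).valuationSubring) :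
    x ∈ Ideal.span {π} ^ n ↔ Valued.v (x : F) ≤ WithZero.exp (-(n : ℤ)) := by
  have hn : Valued.v ((π : F) ^ n) = WithZero.exp (-(n : ℤ)) := by
    rw [map_pow, hπ, ← WithZero.exp_nsmul]
    simp
  rw [Ideal.span_singleton_pow, Ideal.mem_span_singleton']
  constructor
  · rintro ⟨a, rfl⟩
    have ha : Valued.v (a : F) ≤ 1 := a.2
    simpa [hn] using mul_le_mul_left ha (WithZero.exp (-(n : ℤ)))
  · intro hx
    have hne : (π : F) ^ n ≠ 0 := fun h => by
      rw [h, map_zero] at hn
      exact WithZero.exp_ne_zero hn.symm
    refine ⟨⟨(x : F) / (π : F) ^ n, ?_⟩, Subtype.ext (div_mul_cancel₀ _ hne)⟩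
    show Valued.v ((x : F) / (π : F) ^ n) ≤ 1
    rw [map_div₀, hn]
    exact div_le_one_of_le₀ hx zero_le

theorem isClosed_ball (c : F) (hc : c ≠ 0) (a : F) :
    IsClosed {y : F | Valued.v (y - a) ≤ Valued.v c} := by
  have : {y : F | Valued.v (y - a) ≤ Valued.v c} = (fun y => (y - a) * c⁻¹) ⁻¹' ((Valued.v : Valuation F (WithZero (Multiplicative ℤ))).valuationSubring : Set F) := by
    ext y
    simp only [Set.mem_preimage, SetLike.mem_coe, Valuation.mem_valuationSubring_iff, map_mul,
      map_inv₀, Set.mem_ofPred_eq]
    rw [mul_inv_le_iff₀ (zero_lt_iff.2 ((Valuation.ne_zero_iff _).2 hc)), one_mul]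
  rw [this]
  exact (Valued.isClosed_valuationSubring F).preimage ((continuous_id.sub continuous_const).mul continuous_const)

/-- A complete discretely valued field has a henselian valuation ring. -/
theorem henselianLocalRing_valuationSubring [CompleteSpace F] {π : (Valued.v : Valuation F (WithZero (Multiplicative ℤ))).valuationSubring}
    (hπ : Valued.v (π : F) = WithZero.exp (-1 : ℤ)) : HenselianLocalRing (Valued.v : Valuation F (WithZero (Multiplicative ℤ))).valuationSubring := by
  have hmem := mem_pow_span_iff hπ
  have hpow : ∀ n : ℕ, WithZero.exp (-(n : ℤ)) = Valued.v ((π : F) ^ n) := fun n => by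
    rw [map_pow, hπ, ← WithZero.exp_nsmul]
    simp
  have hne : (π : F) ≠ 0 := fun h => by
    rw [h, map_zero] at hπ
    exact WithZero.exp_ne_zero hπ.symm
  have : IsAdicComplete (Ideal.span {π}) (Valued.v : Valuation F (WithZero (Multiplicative ℤ))).valuationSubring :=
    { haus' := fun x hx => by
        by_contra h0
        have hx0 : Valued.v (x : F) ≠ 0 :=
          (Valuation.ne_zero_iff _).2 fun h => h0 (Subtype.ext h)
        obtain ⟨m, hm⟩ : ∃ m : ℤ, Valued.v (x : F) = WithZero.exp m := ⟨_, (WithZero.exp_log hx0).symm⟩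
        have h := hx (Int.natAbs m + 1)
        rw [smul_eq_mul, Ideal.mul_top, SModEq.zero, hmem, hm, WithZero.exp_le_exp] at h
        omega
      prec' := fun f hf => by
        have hd : ∀ {m n}, m ≤ n → Valued.v ((f m : F) - f n) ≤ WithZero.exp (-(m : ℤ)) := fun h => by
          have := hf h
          rw [smul_eq_mul, Ideal.mul_top, SModEq.sub_mem, hmem] at this
          simpa using this
        have hc : CauchySeq fun n => (f n : F) := by
          refine Valued.cauchy_iff.2 ⟨inferInstance, fun γ => ?_⟩
          obtain ⟨m, hm⟩ : ∃ m : ℕ, WithZero.exp (-(m : ℤ)) <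
              MonoidWithZeroHom.ValueGroup₀.embedding γ.1 := by
            have h0 : MonoidWithZeroHom.ValueGroup₀.embedding γ.1 ≠ 0 := by simp
            refine ⟨Int.natAbs (WithZero.log (MonoidWithZeroHom.ValueGroup₀.embedding γ.1)) + 1, ?_⟩
            rw [← WithZero.exp_log h0, WithZero.exp_lt_exp, WithZero.log_exp]
            omega
          refine ⟨_, Filter.image_mem_map (Filter.Ici_mem_atTop m), ?_⟩
          rintro _ ⟨a, ha, rfl⟩ _ ⟨b, hb, rfl⟩
          rw [Valuation.restrict_lt_iff_lt_embedding]
          refine lt_of_le_of_lt ?_ hm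
          have := Valuation.map_add_le (v := (Valued.v : Valuation F _)) (hd (Set.mem_Ici.1 ha))
            ((Valuation.map_sub_swap _ _ _).trans_le (hd (Set.mem_Ici.1 hb)))
          simpa [Valuation.map_sub_swap] using this
        obtain ⟨L, hL⟩ := cauchySeq_tendsto_of_complete hc
        have hLn : ∀ n, Valued.v (L - f n) ≤ WithZero.exp (-(n : ℤ)) := fun n => by
          rw [hpow]
          refine (isClosed_ball _ (pow_ne_zero n hne) _).mem_of_tendsto hL
            (Filter.eventually_atTop.2 ⟨n, fun b hb => ?_⟩)
          rw [Set.mem_ofPred_eq, ← hpow, Valuation.map_sub_swap]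
          exact hd hb
        have hLO : L ∈ (Valued.v : Valuation F (WithZero (Multiplicative ℤ))).valuationSubring := (Valued.isClosed_valuationSubring F).mem_of_tendsto hL
          (Filter.Eventually.of_forall fun n => (f n).2)
        refine ⟨⟨L, hLO⟩, fun n => ?_⟩
        rw [smul_eq_mul, Ideal.mul_top, SModEq.sub_mem, hmem]
        rw [← Valuation.map_neg]
        simpa using hLn n }
  have hmax : Ideal.span {π} = maximalIdeal (Valued.v : Valuation F (WithZero (Multiplicative ℤ))).valuationSubring := by
    ext x
    rw [← pow_one (Ideal.span {π}), hmem, IsLocalRing.mem_maximalIdeal, mem_nonunits_iff,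
      Valuation.Integers.isUnit_iff_valuation_eq_one (Valuation.valuationSubring.integers _)]
    change Valued.v (x : F) ≤ _ ↔ ¬ Valued.v (x : F) = 1
    have h1 : Valued.v (x : F) ≤ 1 := x.2
    rw [Nat.cast_one]
    constructor
    · intro h e
      rw [show Valued.v (x : F) = 1 from e, ← WithZero.exp_zero, WithZero.exp_le_exp] at h
      omega
    · intro h
      rcases eq_or_ne (Valued.v (x : F)) 0 with e | e
      · simp [e]
      · have h2 : Valued.v (x : F) < 1 := lt_of_le_of_ne h1 h
        rw [← WithZero.exp_log e, ← WithZero.exp_zero, WithZero.exp_lt_exp] at h2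
        rw [← WithZero.exp_log e, WithZero.exp_le_exp]
        omega
  have : HenselianRing (Valued.v : Valuation F (WithZero (Multiplicative ℤ))).valuationSubring (maximalIdeal (Valued.v : Valuation F (WithZero (Multiplicative ℤ))).valuationSubring) := hmax ▸ (inferInstance : HenselianRing (Valued.v : Valuation F (WithZero (Multiplicative ℤ))).valuationSubring (Ideal.span {π}))
  exact Groth.Agent.Hensel.henselianLocalRing_of_henselianRing (Valued.v : Valuation F (WithZero (Multiplicative ℤ))).valuationSubring

end Valued

variable {k K : Type u} [Field k] [Field K] [Algebra k K]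

/-- The valuation ring of the completion at a place is henselian. -/
theorem henselianLocalRing_Ov (v : FunFld.Place k K) : HenselianLocalRing (AdFn.Ov v) := by
  obtain ⟨x, hx⟩ := v.2.2 (WithZero.exp (-1 : ℤ))
  have hv : Valued.v (AdFn.toKv v x) = WithZero.exp (-1 : ℤ) := by rw [AdFn.valued_toKv, hx]
  exact henselianLocalRing_valuationSubring
    (π := ⟨AdFn.toKv v x, by show Valued.v (AdFn.toKv v x) ≤ 1; rw [hv]; decide⟩) hv

end Groth.Agent.DualOv79
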