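import Groth.Agent.DualGm79.Univ

/-!
# The endomorphism of the multiplicative group of a group-like element
-/

set_option autoImplicit false

universe u

open CategoryTheory Limits AlgebraicGeometry Opposite
open Groth.Agent.Adeq2Lib Groth.Agent.DualNorm79
open Groth.Agent.DualGm79

namespace Groth.Agent.DualOv79

theorem evalU_eq_sum {C R : Type u} [CommRing C] [CommRing R] (h : C →+* R) (t : Rˣ) (u : MonoidAlgebra C Z) :
    evalU h t u = ∑ m ∈ u.coeff.support, h (u.coeff m) * ((zpowersHom Rˣ t m : Rˣ) : R) := by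
  conv_lhs => rw [← MonoidAlgebra.sum_coeff_single u]
  rw [Finsupp.sum, map_sum]
  exact Finset.sum_congr rfl fun m _ => by simp [evalU]

theorem evalU_one {C R : Type u} [CommRing C] [CommRing R] (h : C →+* R) {u : MonoidAlgebra C Z} (hu : IsGL u) :
    evalU h 1 u = 1 := by
  rw [evalU_eq_sum, ← map_one h, ← hu.sum, Finsupp.sum, map_sum]
  exact Finset.sum_congr rfl fun m _ => by simp

theorem evalU_mul {C R : Type u} [CommRing C] [CommRing R] (h : C →+* R) (t t' : Rˣ) {u : MonoidAlgebra C Z}
    (hu : IsGL u) : evalU h (t * t') u = evalU h t u * evalU h t' u := by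
  classical
  rw [evalU_eq_sum, evalU_eq_sum, evalU_eq_sum, Finset.sum_mul_sum]
  refine Finset.sum_congr rfl fun m hm => ?_
  rw [Finset.sum_eq_single m]
  · have h1 : h (u.coeff m) * h (u.coeff m) = h (u.coeff m) := by rw [← map_mul, hu.mul, if_pos rfl]
    simp only [zpowersHom_apply, mul_zpow, Units.val_mul]
    rw [mul_mul_mul_comm, h1]
  · intro n _ hn
    rw [mul_mul_mul_comm, ← map_mul, hu.mul, if_neg (Ne.symm hn), map_zero, zero_mul]
  · exact fun h' => (h' hm).elim

variable {S : Scheme.{u}} {C : Type u} [CommRing C] {a : Spec (CommRingCat.of C) ⟶ S}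

/-- The ring map of a test object over a spectrum. -/
noncomputable def strMap {W : Over S} (k : W ⟶ Over.mk a) : C →+* Γ(W.left, ⊤) :=
  ((Scheme.ΓSpecIso (CommRingCat.of C)).inv ≫ k.left.appTop).hom

theorem strMap_comp {W W' : Over S} (m : W' ⟶ W) (k : W ⟶ Over.mk a) :
    strMap (m ≫ k) = m.left.appTop.hom.comp (strMap k) := by
  rw [strMap, strMap, Over.comp_left]
  refine RingHom.ext fun c => ?_
  exact ConcreteCategory.congr_hom (Scheme.Hom.comp_appTop m.left k.left) _

/-- The value of the endomorphism of a group-like element. -/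
noncomputable def ofUnit {W : Over S} (k : W ⟶ Over.mk a) {u : MonoidAlgebra C Z} (hu : IsGL u)
    (t : Γ(W.left, ⊤)ˣ) : Γ(W.left, ⊤)ˣ :=
  Units.mkOfMulEqOne (evalU (strMap k) t u) (evalU (strMap k) t⁻¹ u)
    (by rw [← evalU_mul _ _ _ hu, mul_inv_cancel, evalU_one _ hu])

/-- The endomorphism of the multiplicative group of a group-like element. -/
noncomputable def ofU {u : MonoidAlgebra C Z} (hu : IsGL u) :
    (GmS S).over (Over.mk a) ⟶ (GmS S).over (Over.mk a) :=
  mkHom (fun W k => AddMonoidHom.mk' (fun x => ULift.up (Additive.ofMul (GmPts.ptOfUnit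
      (ofUnit k hu (GmPts.unitOfPt (Additive.toMul x.down))))))
    fun x y => fn_ext (by
      rw [fn_add]
      show Red.gmFn (GmPts.ptOfUnit _) = Red.gmFn (GmPts.ptOfUnit _) * Red.gmFn (GmPts.ptOfUnit _)
      rw [GmPts.gmFn_ptOfUnit, GmPts.gmFn_ptOfUnit, GmPts.gmFn_ptOfUnit]
      show evalU _ _ u = evalU _ _ u * evalU _ _ u
      rw [← evalU_mul _ _ _ hu]
      congr 2
      exact Units.ext (fn_add x y)))
    fun W W' m k k' hk x => fn_ext (by
      subst hk
      rw [fn_res]
      show m.left.appTop (Red.gmFn (GmPts.ptOfUnit _)) = Red.gmFn (GmPts.ptOfUnit _)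
      rw [GmPts.gmFn_ptOfUnit, GmPts.gmFn_ptOfUnit]
      show m.left.appTop.hom (evalU (strMap k) (GmPts.unitOfPt _) u) = evalU (strMap (m ≫ k)) _ u
      rw [strMap_comp, evalU_eq_sum, evalU_eq_sum, map_sum]
      refine Finset.sum_congr rfl fun n _ => ?_
      rw [map_mul]
      congr 1
      generalize ht : GmPts.unitOfPt (Additive.toMul x.down) = t
      have h' : GmPts.unitOfPt (Additive.toMul (AffVan.rA (GmS S) m x).down) =
          Units.map (m.left.appTop.hom : Γ(W.left, ⊤) →* Γ(W'.left, ⊤)) t := by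
        subst ht
        exact Units.ext (fn_res m x)
      show m.left.appTop.hom ((zpowersHom _ t n : Γ(W.left, ⊤)ˣ) : Γ(W.left, ⊤)) = _
      refine Eq.trans ?_ (congrArg (fun s => ((zpowersHom _ s n : Γ(W'.left, ⊤)ˣ) : Γ(W'.left, ⊤))) h'.symm)
      simp only [zpowersHom_apply, ← map_zpow]
      rfl)

theorem ucoef_ofU {u : MonoidAlgebra C Z} (hu : IsGL u) : ucoef a (ofU (a := a) hu) = u := by
  rw [ucoef, gv, ofU, val_mkHom]
  refine (congrArg (Scheme.ΓSpecIso (CommRingCat.of (MonoidAlgebra C Z))).hom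
    (GmPts.gmFn_ptOfUnit (T := univObj a) _)).trans ?_
  show (Scheme.ΓSpecIso (CommRingCat.of (MonoidAlgebra C Z))).hom.hom (evalU _ _ u) = u
  have key : ∀ {R' : Type u} [CommRing R'] (h : C →+* R') (t : R'ˣ) (φ : R' →+* MonoidAlgebra C Z),
      φ.comp h = algebraMap C (MonoidAlgebra C Z) → φ t = (zU C : MonoidAlgebra C Z) → φ (evalU h t u) = u := by
    intro R' _ h t φ hh ht
    have : φ.comp (evalU h t) = RingHom.id _ := MonoidAlgebra.ringHom_ext
      (fun c => by
        have := RingHom.congr_fun hh c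
        simpa [evalU] using this)
      fun g => by
        have he : ((φ : R' →* MonoidAlgebra C Z).comp ((Units.coeHom R').comp (zpowersHom R'ˣ t))) =
            MonoidAlgebra.of C Z := MonoidHom.ext_mint (by simpa [zU] using ht)
        have := DFunLike.congr_fun he g
        simpa [evalU] using this
    exact RingHom.congr_fun this u
  refine key _ _ _ ?_ (gv_univSec a)
  refine RingHom.ext fun c => ?_
  show (Scheme.ΓSpecIso (CommRingCat.of (MonoidAlgebra C Z))).hom ((Spec.map _).appTop _) = _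
  refine (ConcreteCategory.congr_hom (Scheme.ΓSpecIso_naturality
    (CommRingCat.ofHom (algebraMap C (MonoidAlgebra C Z)))) _).trans ?_
  exact congrArg (algebraMap C (MonoidAlgebra C Z)) (ConcreteCategory.congr_hom (Scheme.ΓSpecIso (CommRingCat.of C)).inv_hom_id c)

theorem ucoef_sub_eq {χ χ' : (GmS S).over (Over.mk a) ⟶ (GmS S).over (Over.mk a)} (h : ucoef a χ = ucoef a χ') :
    χ = χ' := by
  refine sub_eq_zero.1 (eq_zero_of_ucoef (χ - χ') ?_)
  have h1 := ucoef_add (a := a) (χ - χ') χ'
  rw [sub_add_cancel, h] at h1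
  have h3 : ucoef a χ' * ucoef a (-χ') = 1 := by rw [← ucoef_add, add_neg_cancel, ucoef_zero]
  have h2 := congrArg (· * ucoef a (-χ')) h1
  simp only [mul_assoc, h3, mul_one] at h2
  exact h2.symm

end Groth.Agent.DualOv79
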