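import Groth.Agent.GmField79.HOne
import Groth.Agent.DualGm79.Univ
import Groth.Agent.DualOv79.Coef
import Groth.Agent.DualOv79.Pi
import Groth.Agent.DualOv79.HOne

/-!
# The dual of the multiplicative group over finite projective algebras of products of henselian local rings
-/

set_option autoImplicit false

universe u

open CategoryTheory Limits AlgebraicGeometry Opposite Abelian TensorProduct
open Groth.Agent.Adeq2Lib Groth.Agent.DualNorm79
open Groth.Agent.DualGm79 (ucoef ucoef_res ucoef_add eq_zero_of_ucoef isGL_ucoef Z)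
open Groth.Agent.GmField79 (sq_π_zero sq_π_one exists_preimage subsingleton_H_one_of_lift)

namespace Groth.Agent.DualOv79

open AffVan CechSingle CechAffine

/-- The Cech cocycles of the dual of the multiplicative group vanish for coverings with one maximal ideal over each
maximal ideal of the base. -/
theorem ex_dualGm_pi {ι : Type u} (R : ι → Type u) [∀ i, CommRing (R i)] [∀ i, HenselianLocalRing (R i)]
    (A C : Type u) [CommRing A] [Algebra (∀ i, R i) A] [Module.Finite (∀ i, R i) A] [Module.Projective (∀ i, R i) A]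
    [CommRing C] [Algebra A C] [Module.Finite A C] [Module.Flat A C] [Algebra.FinitePresentation A C]
    (huniq : ∀ i, ∀ P Q : Ideal C, P.IsMaximal → Q.IsMaximal →
      algebraMap A C (algebraMap (∀ i, R i) A (1 - del R i)) ∈ P →
      P.comap (algebraMap A C) = Q.comap (algebraMap A C) → P = Q)
    {S : Scheme.{u}} (a : Spec (CommRingCat.of A) ⟶ S) :
    Ex (X₀ (R := CommRingCat.of A) C)
      (pr ((BigSite.pullBig Scheme.fppfPrecoverage a AddCommGrpCat.{u + 1}).obj (dualS (GmS S))) (𝟙 _)) 0 := by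
  refine ex_of_cocycle A C _ fun x' hD => ⟨0, ?_⟩
  rw [map_zero, map_zero, add_zero]
  let R₀ := CommRingCat.of A
  let a₂ : Spec (CommRingCat.of (C ⊗[A] C)) ⟶ S := ((sp R₀ (Adeq.algOf R₀ (C ⊗[A] C))).hom ≫ 𝟙 (Spec R₀)) ≫ a
  let a₃ : Spec (CommRingCat.of (C ⊗[A] (C ⊗[A] C))) ⟶ S := ((sp R₀ (Adeq.algOf R₀ (C ⊗[A] (C ⊗[A] C)))).hom ≫ 𝟙 (Spec R₀)) ≫ a
  let χ : (GmS S).over (Over.mk a₂) ⟶ (GmS S).over (Over.mk a₂) := x'
  have hm : ∀ φ : C ⊗[A] C →ₐ[A] C ⊗[A] (C ⊗[A] C),
      ucoef a₃ (AffVan.rA (dualS (GmS S)) ((Over.map a).map ((Over.map (𝟙 (Spec R₀))).map (spMap R₀ (CommAlgCat.ofHom φ :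
        Adeq.algOf R₀ (C ⊗[A] C) ⟶ Adeq.algOf R₀ (C ⊗[A] (C ⊗[A] C))))) : Over.mk a₃ ⟶ Over.mk a₂) χ) =
        MonoidAlgebra.mapRingHom Z φ.toRingHom (ucoef a₂ χ) :=
    fun φ => ucoef_res χ _ φ.toRingHom rfl
  have h := congrArg (fun z => ucoef a₃ (z : (GmS S).over (Over.mk a₃) ⟶ (GmS S).over (Over.mk a₃))) hD
  have h1 := (ucoef_add (a := a₃) _ _).symm.trans h
  refine (eq_zero_of_ucoef χ (eq_one_of_cocycle_pi (R := R) huniq (isGL_ucoef χ) ?_)).symm
  rw [← hm, ← hm, ← hm]
  exact h1

/-- The dual of the multiplicative group has no first cohomology on a finite projective algebra over a product of henselian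
local rings. -/
theorem subsingleton_H_one_dualGm_pi {ι : Type u} (R : ι → Type u) [∀ i, CommRing (R i)]
    [∀ i, HenselianLocalRing (R i)] (A : Type u) [CommRing A] [Algebra (∀ i, R i) A] [Module.Finite (∀ i, R i) A]
    [Module.Projective (∀ i, R i) A] {S : Scheme.{u}} (a : Spec (CommRingCat.of A) ⟶ S) :
    Subsingleton (BigSite.H Scheme.fppfPrecoverage (Spec (CommRingCat.of A))
      ((BigSite.pullBig Scheme.fppfPrecoverage a AddCommGrpCat.{u + 1}).obj (dualS (GmS S))) 1) :=
  subsingleton_H_one_of_lift _ _ fun E hE h₁ s => by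
    haveI := hE.epi_g
    obtain ⟨B, iB, iA, iff', hlfp, t, ht⟩ := exists_lift_single (𝟙 (Spec (CommRingCat.of A))) E.g s
    letI : Algebra A B := iA
    haveI : Module.FaithfullyFlat A B := iff'
    haveI : Algebra.FinitePresentation A B :=
      RingHom.finitePresentation_algebraMap.1 ((HasRingHomProperty.Spec_iff (P := @LocallyOfFinitePresentation)).1 hlfp)
    obtain ⟨C, _, _, hfin, hff, hfp, huniq, ⟨f⟩⟩ := exists_refinement_pi (R := R) A B
    haveI : Module.FaithfullyFlat (CommRingCat.of A) C := hff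
    haveI : LocallyOfFinitePresentation (Spec.map (CommRingCat.ofHom (algebraMap (CommRingCat.of A) C))) :=
      (HasRingHomProperty.Spec_iff (P := @LocallyOfFinitePresentation)).2
        (RingHom.finitePresentation_algebraMap.2 hfp)
    let q : Adeq.algOf (CommRingCat.of A) B ⟶ Adeq.algOf (CommRingCat.of A) C := CommAlgCat.ofHom f
    let c : cov (𝟙 (Spec (CommRingCat.of A))) C ⟶ cov (𝟙 (Spec (CommRingCat.of A))) B :=
      (Over.map (𝟙 (Spec (CommRingCat.of A)))).map (spMap _ q)
    have hc : c ≫ covMap (𝟙 (Spec (CommRingCat.of A))) B = covMap (𝟙 (Spec (CommRingCat.of A))) C :=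
      Over.OverMorphism.ext (Over.w (spMap (CommRingCat.of A) q))
    refine exists_preimage _ E hE C (h₁ ▸ ex_dualGm_pi R A C huniq a) s (rA E.X₂ c t) ?_
    refine (ConcreteCategory.congr_hom (E.g.hom.naturality c.op) t).trans ?_
    refine (congrArg (rA E.X₃ c) ht).trans ?_
    rw [rA_comp, hc]

end Groth.Agent.DualOv79
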