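import Groth.Agent.GmField79.HOne
import Groth.Agent.DualGm79.Univ
import Groth.Agent.DualOv79.Coef
import Groth.Agent.DualOv79.Pi
import Groth.Agent.DualOv79.HOne

/-!
# Lifting sections along epimorphisms with kernel the dual of the multiplicative group
-/

set_option autoImplicit false

universe u

open CategoryTheory Limits AlgebraicGeometry Opposite Abelian TensorProduct
open Groth.Agent.Adeq2Lib Groth.Agent.DualNorm79
open Groth.Agent.DualGm79 (ucoef ucoef_res ucoef_add eq_zero_of_ucoef isGL_ucoef Z)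
open Groth.Agent.GmField79 (sq_π_zero sq_π_one exists_preimage subsingleton_H_one_of_lift)

namespace Groth.Agent.DualOv79

open AffVan CechSingle CechAffine

/-- The Cech cocycles of the dual of the multiplicative group vanish for coverings with one maximal ideal over each
maximal ideal of the base. -/
theorem ex_dualGm_at {ι : Type u} (R : ι → Type u) [∀ i, CommRing (R i)] [∀ i, HenselianLocalRing (R i)]
    (A C : Type u) [CommRing A] [Algebra (∀ i, R i) A] [Module.Finite (∀ i, R i) A] [Module.Projective (∀ i, R i) A]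
    [CommRing C] [Algebra A C] [Module.Finite A C] [Module.Flat A C] [Algebra.FinitePresentation A C]
    (huniq : ∀ i, ∀ P Q : Ideal C, P.IsMaximal → Q.IsMaximal →
      algebraMap A C (algebraMap (∀ i, R i) A (1 - del R i)) ∈ P →
      P.comap (algebraMap A C) = Q.comap (algebraMap A C) → P = Q)
    {T S : Scheme.{u}} (b : Spec (CommRingCat.of A) ⟶ T) (a : T ⟶ S) :
    Ex (X₀ (R := CommRingCat.of A) C)
      (pr ((BigSite.pullBig Scheme.fppfPrecoverage a AddCommGrpCat.{u + 1}).obj (dualS (GmS S))) b) 0 := by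
  refine ex_of_cocycle A C _ fun x' hD => ⟨0, ?_⟩
  rw [map_zero, map_zero, add_zero]
  let R₀ := CommRingCat.of A
  let a₂ : Spec (CommRingCat.of (C ⊗[A] C)) ⟶ S := ((sp R₀ (Adeq.algOf R₀ (C ⊗[A] C))).hom ≫ b) ≫ a
  let a₃ : Spec (CommRingCat.of (C ⊗[A] (C ⊗[A] C))) ⟶ S := ((sp R₀ (Adeq.algOf R₀ (C ⊗[A] (C ⊗[A] C)))).hom ≫ b) ≫ a
  let χ : (GmS S).over (Over.mk a₂) ⟶ (GmS S).over (Over.mk a₂) := x'
  have hm : ∀ φ : C ⊗[A] C →ₐ[A] C ⊗[A] (C ⊗[A] C),
      ucoef a₃ (AffVan.rA (dualS (GmS S)) ((Over.map a).map ((Over.map b).map (spMap R₀ (CommAlgCat.ofHom φ :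
        Adeq.algOf R₀ (C ⊗[A] C) ⟶ Adeq.algOf R₀ (C ⊗[A] (C ⊗[A] C))))) : Over.mk a₃ ⟶ Over.mk a₂) χ) =
        MonoidAlgebra.mapRingHom Z φ.toRingHom (ucoef a₂ χ) :=
    fun φ => ucoef_res χ _ φ.toRingHom rfl
  have h := congrArg (fun z => ucoef a₃ (z : (GmS S).over (Over.mk a₃) ⟶ (GmS S).over (Over.mk a₃))) hD
  have h1 := (ucoef_add (a := a₃) _ _).symm.trans h
  refine (eq_zero_of_ucoef χ (eq_one_of_cocycle_pi (R := R) huniq (isGL_ucoef χ) ?_)).symm
  rw [← hm, ← hm, ← hm]
  exact h1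

/-- A section lifting over an affine covering with exact Cech complex lifts. -/
theorem exists_preimage_at {T : Scheme.{u}} (R : CommRingCat.{u}) (a : Spec R ⟶ T) (E : ShortComplex (AbT T)) (hE : E.ShortExact)
    (B : Type u) [CommRing B] [Algebra R B] [Module.FaithfullyFlat R B]
    [LocallyOfFinitePresentation (Spec.map (CommRingCat.ofHom (algebraMap R B)))]
    (hex₁ : Ex (X₀ (R := R) B) (pr E.X₁ a) 0)
    (s : E.X₃.obj.obj (op (Over.mk a))) (t : E.X₂.obj.obj (op (cov a B)))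
    (ht : (E.g.hom.app _).hom t = rA E.X₃ (covMap a B) s) :
    ∃ z, (E.g.hom.app (op (Over.mk a))).hom z = s := by
  let f' : pr E.X₁ a ⟶ pr E.X₂ a := Functor.whiskerLeft (Over.map a).op E.f.hom
  let g' : pr E.X₂ a ⟶ pr E.X₃ a := Functor.whiskerLeft (Over.map a).op E.g.hom
  have hinj : ∀ U, Function.Injective (f'.app (op U)).hom := fun U => (secA_exact E hE ((Over.map a).obj U)).1
  have hex : ∀ U y, (g'.app (op U)).hom y = 0 ↔ ∃ x, (f'.app (op U)).hom x = y :=
    fun U => (secA_exact E hE ((Over.map a).obj U)).2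
  let π₀ := Pi.π (fun _ : Fin 1 => X₀ (R := R) B) 0
  let t₀ : (pr E.X₂ a).obj (op (pw (X₀ (R := R) B) 0)) := rA E.X₂ ((Over.map a).map π₀) t
  have ht₀ : (g'.app _).hom t₀ = rA E.X₃ ((Over.map a).map π₀ ≫ covMap a B) s := by
    rw [← rA_comp, ← ht]
    exact ConcreteCategory.congr_hom (E.g.hom.naturality ((Over.map a).map π₀).op) t
  obtain ⟨c, hc⟩ := (hex _ (D (X₀ (R := R) B) (pr E.X₂ a) 0 t₀)).1 (by rw [← D_nat, ht₀, D_restr])
  obtain ⟨g, hg⟩ := hex₁ c (hinj _ (by rw [← D_nat, hc, D_D, map_zero]))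
  obtain ⟨z, hz⟩ := glue_cov E.X₂ a B (t₀ - (f'.app _).hom g) (by rw [map_sub, D_nat, hg, hc, sub_self])
  refine ⟨z, ext_cov E.X₃ a B _ _ ?_⟩
  have h := congrArg (g'.app (op (pw (X₀ (R := R) B) 0))).hom hz
  rw [map_sub, (hex _ _).2 ⟨g, rfl⟩, sub_zero, ht₀] at h
  let σ₁ : X₀ (R := R) B ⟶ pw (X₀ (R := R) B) 0 := Pi.lift fun _ => 𝟙 _
  have hσ : σ₁ ≫ π₀ = 𝟙 _ := Pi.lift_π _ _
  have hn : rA E.X₃ ((Over.map a).map π₀ ≫ covMap a B) ((E.g.hom.app _).hom z) =
      (E.g.hom.app (op ((Over.map a).obj (pw (X₀ (R := R) B) 0)))).hom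
        (rA E.X₂ ((Over.map a).map π₀ ≫ covMap a B) z) :=
    (ConcreteCategory.congr_hom (E.g.hom.naturality _) z).symm
  have h' := congrArg (rA E.X₃ ((Over.map a).map σ₁)) (hn.trans h)
  rw [rA_comp, rA_comp, ← Category.assoc, ← Functor.map_comp, hσ, CategoryTheory.Functor.map_id,
    Category.id_comp] at h'
  exact h'

/-- Sections lift along epimorphisms with kernel the dual of the multiplicative group. -/
theorem surjective_dualGm_at {ι : Type u} (R : ι → Type u) [∀ i, CommRing (R i)] [∀ i, HenselianLocalRing (R i)]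
    (A : Type u) [CommRing A] [Algebra (∀ i, R i) A] [Module.Finite (∀ i, R i) A] [Module.Projective (∀ i, R i) A]
    {T S : Scheme.{u}} (b : Spec (CommRingCat.of A) ⟶ T) (a : T ⟶ S) (E : ShortComplex (AbT T)) (hE : E.ShortExact)
    (h₁ : E.X₁ = (BigSite.pullBig Scheme.fppfPrecoverage a AddCommGrpCat.{u + 1}).obj (dualS (GmS S))) :
    Function.Surjective (E.g.hom.app (op (Over.mk b))).hom := fun s => by
    haveI := hE.epi_g
    obtain ⟨B, iB, iA, iff', hlfp, t, ht⟩ := exists_lift_single b E.g s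
    letI : Algebra A B := iA
    haveI : Module.FaithfullyFlat A B := iff'
    haveI : Algebra.FinitePresentation A B :=
      RingHom.finitePresentation_algebraMap.1 ((HasRingHomProperty.Spec_iff (P := @LocallyOfFinitePresentation)).1 hlfp)
    obtain ⟨C, _, _, hfin, hff, hfp, huniq, ⟨f⟩⟩ := exists_refinement_pi (R := R) A B
    haveI : Module.FaithfullyFlat (CommRingCat.of A) C := hff
    haveI : LocallyOfFinitePresentation (Spec.map (CommRingCat.ofHom (algebraMap (CommRingCat.of A) C))) :=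
      (HasRingHomProperty.Spec_iff (P := @LocallyOfFinitePresentation)).2
        (RingHom.finitePresentation_algebraMap.2 hfp)
    let q : Adeq.algOf (CommRingCat.of A) B ⟶ Adeq.algOf (CommRingCat.of A) C := CommAlgCat.ofHom f
    let c : cov b C ⟶ cov b B := (Over.map b).map (spMap _ q)
    have hc : c ≫ covMap b B = covMap b C := Over.OverMorphism.ext (Over.w (spMap (CommRingCat.of A) q))
    refine exists_preimage_at _ b E hE C (h₁ ▸ ex_dualGm_at R A C huniq b a) s (rA E.X₂ c t) ?_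
    refine (ConcreteCategory.congr_hom (E.g.hom.naturality c.op) t).trans ?_
    refine (congrArg (rA E.X₃ c) ht).trans ?_
    rw [rA_comp, hc]

end Groth.Agent.DualOv79
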