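import Groth.Agent.DualOv79.Pi
import Groth.Agent.DualOv79.Clopen
import Groth.Agent.DualOv79.Bound
import Groth.Agent.DualOv79.OfUcoef
import Mathlib.AlgebraicGeometry.Morphisms.OpenImmersion

/-!
# The pieces of a spectrum over a product of rings
-/

set_option autoImplicit false

universe u

open CategoryTheory Limits AlgebraicGeometry Opposite
open Groth.Agent.Adeq2Lib Groth.Agent.DualNorm79
open Groth.Agent.DualGm79 (ucoef ucoef_res Z)

namespace Groth.Agent.DualOv79

variable {ι : Type u} (R : ι → Type u) [∀ i, CommRing (R i)] (A : Type u) [CommRing A] [Algebra (∀ i, R i) A]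

/-- The idempotent of a piece. -/
noncomputable abbrev dA (i : ι) : A := algebraMap (∀ i, R i) A (del R i)

/-- The inclusion of the piece over one factor. -/
noncomputable abbrev inP (i : ι) : Spec (CommRingCat.of (A ⧸ Ideal.span {1 - dA R A i})) ⟶ Spec (CommRingCat.of A) :=
  Spec.map (CommRingCat.ofHom (Ideal.Quotient.mk _))

/-- The inclusion of the complementary piece. -/
noncomputable abbrev outP (i : ι) : Spec (CommRingCat.of (A ⧸ Ideal.span {dA R A i})) ⟶ Spec (CommRingCat.of A) :=
  Spec.map (CommRingCat.ofHom (Ideal.Quotient.mk _))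

theorem dA_idem (i : ι) : IsIdempotentElem (dA R A i) := (del_idem i).map _

theorem isOpenImmersion_quotient {A : Type u} [CommRing A] {e : A} (he : IsIdempotentElem e) :
    IsOpenImmersion (Spec.map (CommRingCat.ofHom (Ideal.Quotient.mk (Ideal.span ({e} : Set A))))) :=
  (isOpenImmersion_SpecMap_iff_of_surjective _ Ideal.Quotient.mk_surjective).2 ⟨e, he, Ideal.mk_ker⟩

theorem isClopenPair_pieces (i : ι) : IsClopenPair (inP R A i) (outP R A i) where
  left := isOpenImmersion_quotient (dA_idem R A i).one_sub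
  right := isOpenImmersion_quotient (dA_idem R A i)
  disjoint a b hab := by
    have e : PrimeSpectrum.comap (Ideal.Quotient.mk (Ideal.span {1 - dA R A i})) a =
        PrimeSpectrum.comap (Ideal.Quotient.mk (Ideal.span {dA R A i})) b := hab
    have h1 : 1 - dA R A i ∈ (PrimeSpectrum.comap (Ideal.Quotient.mk (Ideal.span {1 - dA R A i})) a).asIdeal := by
      show Ideal.Quotient.mk _ _ ∈ a.asIdeal
      rw [Ideal.Quotient.eq_zero_iff_mem.2 (Ideal.mem_span_singleton_self _)]
      exact zero_mem _
    have h2 : dA R A i ∈ (PrimeSpectrum.comap (Ideal.Quotient.mk (Ideal.span {dA R A i})) b).asIdeal := by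
      show Ideal.Quotient.mk _ _ ∈ b.asIdeal
      rw [Ideal.Quotient.eq_zero_iff_mem.2 (Ideal.mem_span_singleton_self _)]
      exact zero_mem _
    rw [e] at h1
    exact (mem_iff_of_idem (dA_idem R A i) _).1 h2 h1
  covers x := by
    let p : PrimeSpectrum A := x
    by_cases h : dA R A i ∈ p.asIdeal
    · right
      have : p ∈ Set.range (PrimeSpectrum.comap (Ideal.Quotient.mk (Ideal.span {dA R A i}))) := by
        rw [range_comap_of_surjective _ _ Ideal.Quotient.mk_surjective, Ideal.mk_ker, PrimeSpectrum.mem_zeroLocus]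
        exact SetLike.coe_subset_coe.2 ((Ideal.span_singleton_le_iff_mem _).2 h)
      exact this
    · left
      have h' : 1 - dA R A i ∈ p.asIdeal := by
        have hh : dA R A i * (1 - dA R A i) ∈ p.asIdeal := by
          rw [mul_sub, mul_one, (dA_idem R A i).eq, sub_self]; exact zero_mem _
        exact (p.isPrime.mem_or_mem hh).resolve_left h
      have : p ∈ Set.range (PrimeSpectrum.comap (Ideal.Quotient.mk (Ideal.span {1 - dA R A i}))) := by
        rw [range_comap_of_surjective _ _ Ideal.Quotient.mk_surjective, Ideal.mk_ker, PrimeSpectrum.mem_zeroLocus]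
        exact SetLike.coe_subset_coe.2 ((Ideal.span_singleton_le_iff_mem _).2 h')
      exact this

/-- The universal element of the part of an endomorphism over a piece agrees with that of the endomorphism. -/
theorem dl_mul_ucoef_part {S : Scheme.{u}} (g : Spec (CommRingCat.of A) ⟶ S) (i : ι) (D : Type u) [CommRing D]
    [Algebra A D] (b : Spec (CommRingCat.of D) ⟶ Spec (CommRingCat.of A))
    (hb : b = Spec.map (CommRingCat.ofHom (algebraMap A D)))
    (x : ((BigSite.pullBig Scheme.fppfPrecoverage g AddCommGrpCat.{u + 1}).obj (dualS (GmS S))).obj.obj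
      (op (Over.mk b))) :
    dl D (dA R A i) * ucoef (b ≫ g) ((((isClopenPair_pieces R A i).part
        ((BigSite.pullBig Scheme.fppfPrecoverage g AddCommGrpCat.{u + 1}).obj (dualS (GmS S)))).hom.app
          (op (Over.mk b))).hom x) =
      dl D (dA R A i) * ucoef (b ≫ g) x := by
  subst hb
  let G := (BigSite.pullBig Scheme.fppfPrecoverage g AddCommGrpCat.{u + 1}).obj (dualS (GmS S))
  let e := algebraMap A D (dA R A i)
  let q : D →+* D ⧸ Ideal.span {1 - e} := Ideal.Quotient.mk _
  let b₀ := Spec.map (CommRingCat.ofHom (algebraMap A D))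
  let W' : Over (Spec (CommRingCat.of A)) := Over.mk (Spec.map (CommRingCat.ofHom q) ≫ b₀)
  let m : W' ⟶ Over.mk b₀ := Over.homMk (Spec.map (CommRingCat.ofHom q))
  let φ : A ⧸ Ideal.span {1 - dA R A i} →+* D ⧸ Ideal.span {1 - e} :=
    Ideal.Quotient.lift _ (q.comp (algebraMap A D)) fun y hy => by
      obtain ⟨c, rfl⟩ := Ideal.mem_span_singleton'.1 hy
      show q (algebraMap A D (c * (1 - dA R A i))) = 0
      rw [map_mul, map_mul, map_sub (algebraMap A D), map_one,
        show q (1 - e) = 0 from Ideal.Quotient.eq_zero_iff_mem.2 (Ideal.mem_span_singleton_self _), mul_zero]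
  have hfac : Spec.map (CommRingCat.ofHom φ) ≫ inP R A i = m.left ≫ (Over.mk b₀).hom := by
    show _ ≫ Spec.map _ = Spec.map _ ≫ Spec.map _
    rw [← Spec.map_comp, ← Spec.map_comp]
    exact congrArg Spec.map (CommRingCat.hom_ext (RingHom.ext fun c => rfl))
  let m' : W' ⟶ pc (inP R A i) (Over.mk b₀) :=
    Over.homMk (pullback.lift m.left (Spec.map (CommRingCat.ofHom φ)) hfac.symm) (by
      show _ ≫ pullback.fst _ _ ≫ b₀ = _
      rw [pullback.lift_fst_assoc]
      rfl)
  have hm : m' ≫ pcι (inP R A i) (Over.mk b₀) = m := Over.OverMorphism.ext (pullback.lift_fst _ _ _)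
  have key : AffVan.rA G m ((((isClopenPair_pieces R A i).part G).hom.app (op (Over.mk b₀))).hom x) =
      AffVan.rA G m x := by
    rw [← hm, ← AffVan.rA_comp, ← AffVan.rA_comp, IsClopenPair.part_left]
  have key' := congrArg (ucoef ((Spec.map (CommRingCat.ofHom q) ≫ b₀) ≫ g)) key
  have hres : ∀ z : G.obj.obj (op (Over.mk b₀)),
      ucoef ((Spec.map (CommRingCat.ofHom q) ≫ b₀) ≫ g) (AffVan.rA G m z) =
        MonoidAlgebra.mapRingHom Z q (ucoef (b₀ ≫ g) z) := fun z =>
    ucoef_res (z : (GmS S).over (Over.mk (b₀ ≫ g)) ⟶ (GmS S).over (Over.mk (b₀ ≫ g))) _ q rfl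
  rw [hres, hres] at key'
  refine MonoidAlgebra.coeffEquiv.injective (Finsupp.ext fun n => ?_)
  show (dl D (dA R A i) * _ : MonoidAlgebra D Z).coeff n = (dl D (dA R A i) * _ : MonoidAlgebra D Z).coeff n
  rw [coeff_dl_mul, coeff_dl_mul, ← sub_eq_zero, ← mul_sub]
  have hk := congrArg (fun w : MonoidAlgebra (D ⧸ Ideal.span {1 - e}) Z => w.coeff n) key'
  simp only [MonoidAlgebra.coeff_mapRingHom, Finsupp.mapRange_apply] at hk
  obtain ⟨c, hc⟩ := Ideal.mem_span_singleton'.1 (Ideal.Quotient.eq.1 hk)
  rw [← hc, mul_left_comm, mul_sub, mul_one, ((dA_idem R A i).map (algebraMap A D)).eq, sub_self, mul_zero]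

end Groth.Agent.DualOv79
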