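import Groth.Agent.HZero79.Basic
import Groth.Agent.BigSiteLib.Along
import Groth.Agent.Adeq2Lib.AffineVanish
import Mathlib.CategoryTheory.Abelian.Injective.Ext
import Mathlib.Algebra.Homology.DerivedCategory.Ext.ExactSequences

/-!
# Restriction of big-site cohomology classes and connecting maps
-/

set_option autoImplicit false

universe u

open CategoryTheory CategoryTheory.Limits CategoryTheory.Abelian AlgebraicGeometry Opposite

namespace Groth.Agent.DualOv79

variable {S T : Scheme.{u}} (f : T ⟶ S)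

/-- Restriction commutes with connecting maps. -/
theorem pull_comp_extClass {E : ShortComplex (BigSite.Ab Scheme.fppfPrecoverage S)} (hE : E.ShortExact) (n : ℕ)
    (y : BigSite.H Scheme.fppfPrecoverage S E.X₃ n) :
    HRes.pull Scheme.fppfPrecoverage f E.X₁ (n + 1) (y.comp hE.extClass rfl) =
      (HRes.pull Scheme.fppfPrecoverage f E.X₃ n y).comp
        (hE.map_of_exact (BigSite.pullBig Scheme.fppfPrecoverage f AddCommGrpCat.{u + 1})).extClass rfl := by
  rw [HRes.pull_apply, HRes.pull_apply, Ext.mapExactFunctor_comp, Ext.mapExactFunctor_extClass]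
  exact (Ext.comp_assoc _ _ _ (zero_add n) rfl (by omega)).symm

/-- In degree zero restriction is restriction of sections. -/
theorem equiv₀_pull (F : BigSite.Ab Scheme.fppfPrecoverage S) (x : BigSite.H Scheme.fppfPrecoverage S F 0) :
    Sheaf.H.equiv₀ ((BigSite.pullBig Scheme.fppfPrecoverage f AddCommGrpCat.{u + 1}).obj F) Over.mkIdTerminal
        (HRes.pull Scheme.fppfPrecoverage f F 0 x) =
      Adeq2Lib.AffVan.rA F (Over.mkIdTerminal.from ((Over.map f).obj (Over.mk (𝟙 T))))
        (Sheaf.H.equiv₀ F Over.mkIdTerminal x) := by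
  obtain ⟨φ, rfl⟩ := (Ext.mk₀_bijective _ _).2 x
  have e : HRes.pull Scheme.fppfPrecoverage f F 0 (Ext.mk₀ φ) =
      Ext.mk₀ ((HRes.pullConst Scheme.fppfPrecoverage f _).inv ≫
        (BigSite.pullBig Scheme.fppfPrecoverage f AddCommGrpCat.{u + 1}).map φ) := by
    rw [HRes.pull_apply, Ext.mapExactFunctor_mk₀, Ext.mk₀_comp_mk₀]
  rw [e, HZero79.equiv₀_apply, HZero79.equiv₀_apply]
  have hmk : ∀ {X : Scheme.{u}} (A B : BigSite.Ab Scheme.fppfPrecoverage X) (ψ : A ⟶ B),
      Ext.addEquiv₀ (Ext.mk₀ ψ) = ψ := fun A B ψ => Ext.addEquiv₀.apply_symm_apply ψ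
  rw [hmk, hmk]
  let h : (Over.map f).obj (Over.mk (𝟙 T)) ⟶ Over.mk (𝟙 S) := Over.mkIdTerminal.from _
  have hp := ConcreteCategory.congr_hom
    (EtMVLib.bigUnit_pullConst_inv Scheme.fppfPrecoverage f (Over.mk (𝟙 T))) (ULift.up 1)
  simp only [ObjectProperty.FullSubcategory.comp_hom, NatTrans.comp_app, ConcreteCategory.comp_apply] at hp ⊢
  refine (congrArg (fun z => ((BigSite.pullBig Scheme.fppfPrecoverage f AddCommGrpCat.{u + 1}).map φ).hom.app
    (op (Over.mk (𝟙 T))) z) hp).trans ?_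
  have hu : EtMVLib.bigUnit Scheme.fppfPrecoverage S ((Over.map f).obj (Over.mk (𝟙 T))) (ULift.up 1) =
      (EtMVLib.bigZ Scheme.fppfPrecoverage S).obj.map h.op
        (EtMVLib.bigUnit Scheme.fppfPrecoverage S (Over.mk (𝟙 S)) (ULift.up 1)) := by
    rw [← EtMVLib.bigUnit_map Scheme.fppfPrecoverage S h]
    rfl
  refine (congrArg (fun z => φ.hom.app (op ((Over.map f).obj (Over.mk (𝟙 T)))) z) hu).trans ?_
  exact NatTrans.naturality_apply φ.hom h.op _

/-- A class killed by restriction whose source is a restricted connecting map dies before the connecting map. -/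
theorem pull_eq_zero_of_delta {E : ShortComplex (BigSite.Ab Scheme.fppfPrecoverage S)} (hE : E.ShortExact)
    [Injective E.X₂] (n : ℕ) (y : BigSite.H Scheme.fppfPrecoverage S E.X₃ (n + 1))
    (h : HRes.pull Scheme.fppfPrecoverage f E.X₁ (n + 1 + 1) (y.comp hE.extClass rfl) = 0) :
    HRes.pull Scheme.fppfPrecoverage f E.X₃ (n + 1) y = 0 := by
  rw [pull_comp_extClass] at h
  obtain ⟨z, hz⟩ := Ext.covariant_sequence_exact₃ _
    (hE.map_of_exact (BigSite.pullBig Scheme.fppfPrecoverage f AddCommGrpCat.{u + 1}))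
    (HRes.pull Scheme.fppfPrecoverage f E.X₃ (n + 1) y) (n₁ := n + 1 + 1) rfl h
  haveI : Injective ((E.map (BigSite.pullBig Scheme.fppfPrecoverage f AddCommGrpCat.{u + 1})).X₂) :=
    Functor.PreservesInjectiveObjects.injective_obj (F := BigSite.pullBig Scheme.fppfPrecoverage f
      AddCommGrpCat.{u + 1}) ‹Injective E.X₂›
  rw [Ext.eq_zero_of_injective z, Ext.zero_comp] at hz
  exact hz.symm

/-- A connecting class killed by restriction comes from a section liftable over the piece. -/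
theorem exists_lift_of_pull_delta {E : ShortComplex (BigSite.Ab Scheme.fppfPrecoverage S)} (hE : E.ShortExact)
    (s : BigSite.H Scheme.fppfPrecoverage S E.X₃ 0)
    (h : HRes.pull Scheme.fppfPrecoverage f E.X₁ 1 (s.comp hE.extClass rfl) = 0) :
    ∃ z : E.X₂.obj.obj (op ((Over.map f).obj (Over.mk (𝟙 T)))),
      (E.g.hom.app _).hom z = Adeq2Lib.AffVan.rA E.X₃ (Over.mkIdTerminal.from _)
        (Sheaf.H.equiv₀ E.X₃ Over.mkIdTerminal s) := by
  rw [pull_comp_extClass] at h
  obtain ⟨z, hz⟩ := Ext.covariant_sequence_exact₃ _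
    (hE.map_of_exact (BigSite.pullBig Scheme.fppfPrecoverage f AddCommGrpCat.{u + 1}))
    (HRes.pull Scheme.fppfPrecoverage f E.X₃ 0 s) (n₁ := 1) rfl h
  refine ⟨Sheaf.H.equiv₀ _ Over.mkIdTerminal z, ?_⟩
  rw [← equiv₀_pull, ← hz, ← Sheaf.H.map_apply]
  exact Sheaf.H.equiv₀_naturality Over.mkIdTerminal
    (f := (BigSite.pullBig Scheme.fppfPrecoverage f AddCommGrpCat.{u + 1}).map E.g) z

end Groth.Agent.DualOv79
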