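import Groth.Agent.DualOv79.PiSect
import Groth.Agent.DualOv79.Cube
import Groth.Agent.DualOv79.Pieces
import Groth.Agent.DualOv79.Pull

/-!
# Second cohomology with values in the dual of the multiplicative group over products of henselian local rings
-/

set_option autoImplicit false

universe u

open CategoryTheory Limits AlgebraicGeometry Opposite Abelian TensorProduct
open Groth.Agent.Adeq2Lib Groth.Agent.DualNorm79
open Groth.Agent.DualGm79 (ucoef ucoef_res ucoef_add ucoef_zero isGL_ucoef Z IsGL)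

namespace Groth.Agent.DualOv79

open AffVan CechSingle CechAffine

theorem map_comp_apply' {C : Type (u + 1)} [Category.{u} C] (P : Cᵒᵖ ⥤ AddCommGrpCat.{u + 1}) {U V W : C}
    (f : U ⟶ V) (g : V ⟶ W) (x : P.obj (op W)) :
    (P.map f.op).hom ((P.map g.op).hom x) = (P.map (f ≫ g).op).hom x := by
  rw [op_comp, P.map_comp]
  rfl

theorem surjective_transfer {T : Scheme.{u}} {M N : AbT T} (γ : M ⟶ N) {U V : Over T} (θ : U ⟶ V) (hθ : IsIso θ)
    (h : Function.Surjective (γ.hom.app (op U)).hom) : Function.Surjective (γ.hom.app (op V)).hom := fun s => by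
  haveI := hθ
  obtain ⟨y, hy⟩ := h (rA N θ s)
  refine ⟨rA M (inv θ) y, ?_⟩
  refine (ConcreteCategory.congr_hom (γ.hom.naturality (inv θ).op) y).trans ?_
  refine (congrArg (rA N (inv θ)) hy).trans ?_
  rw [rA_comp, IsIso.inv_hom_id, rA_id]

section Cochains

variable {A : Type u} [CommRing A] {S : Scheme.{u}} (g : Spec (CommRingCat.of A) ⟶ S)
  (C : Type u) [CommRing C] [Algebra A C]

/-- The coefficient sheaf. -/
noncomputable abbrev dG : AbT (Spec (CommRingCat.of A)) :=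
  (BigSite.pullBig Scheme.fppfPrecoverage g AddCommGrpCat.{u + 1}).obj (dualS (GmS S))

/-- The structure map of the double product. -/
noncomputable abbrev str₂ : Spec (CommRingCat.of (C ⊗[A] C)) ⟶ Spec (CommRingCat.of A) :=
  (sp (CommRingCat.of A) (Adeq.algOf (CommRingCat.of A) (C ⊗[A] C))).hom ≫ 𝟙 (Spec (CommRingCat.of A))

/-- The structure map of the triple product. -/
noncomputable abbrev str₃ : Spec (CommRingCat.of (C ⊗[A] (C ⊗[A] C))) ⟶ Spec (CommRingCat.of A) :=
  (sp (CommRingCat.of A) (Adeq.algOf (CommRingCat.of A) (C ⊗[A] (C ⊗[A] C)))).hom ≫ 𝟙 (Spec (CommRingCat.of A))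

/-- The universal element of a one-cochain. -/
noncomputable def v₂ (b : (pr (dG g) (𝟙 _)).obj (op (pw (X₀ (R := CommRingCat.of A) C) 1))) :
    MonoidAlgebra (C ⊗[A] C) Z :=
  ucoef (str₂ C ≫ g) (((pr (dG g) (𝟙 _)).map (GmField79.sq (R := CommRingCat.of A) C).op).hom b :
    (GmS S).over (Over.mk (str₂ C ≫ g)) ⟶ (GmS S).over (Over.mk (str₂ C ≫ g)))

/-- The universal element of a two-cochain. -/
noncomputable def v₃ (c : (pr (dG g) (𝟙 _)).obj (op (pw (X₀ (R := CommRingCat.of A) C) 2))) :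
    MonoidAlgebra (C ⊗[A] (C ⊗[A] C)) Z :=
  ucoef (str₃ C ≫ g) (((pr (dG g) (𝟙 _)).map (cube A C).op).hom c :
    (GmS S).over (Over.mk (str₃ C ≫ g)) ⟶ (GmS S).over (Over.mk (str₃ C ≫ g)))

theorem v₃_D (b : (pr (dG g) (𝟙 _)).obj (op (pw (X₀ (R := CommRingCat.of A) C) 1))) :
    v₃ g C (D (X₀ (R := CommRingCat.of A) C) (pr (dG g) (𝟙 _)) 1 b) *
        MonoidAlgebra.mapRingHom Z (Algebra.TensorProduct.map (AlgHom.id A C) Algebra.TensorProduct.includeRight :
          C ⊗[A] C →ₐ[A] C ⊗[A] (C ⊗[A] C)).toRingHom (v₂ g C b) =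
      MonoidAlgebra.mapRingHom Z
          (Algebra.TensorProduct.includeRight : C ⊗[A] C →ₐ[A] C ⊗[A] (C ⊗[A] C)).toRingHom (v₂ g C b) *
        MonoidAlgebra.mapRingHom Z (Algebra.TensorProduct.map (AlgHom.id A C) Algebra.TensorProduct.includeLeft :
          C ⊗[A] C →ₐ[A] C ⊗[A] (C ⊗[A] C)).toRingHom (v₂ g C b) := by
  let R₀ := CommRingCat.of A
  let P := pr (dG g) (𝟙 (Spec R₀))
  let x' := (P.map (GmField79.sq (R := R₀) C).op).hom b
  have hres : ∀ φ : C ⊗[A] C →ₐ[A] C ⊗[A] (C ⊗[A] C),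
      ucoef (str₃ C ≫ g) ((P.map (spMap R₀ (CommAlgCat.ofHom φ :
        Adeq.algOf R₀ (C ⊗[A] C) ⟶ Adeq.algOf R₀ (C ⊗[A] (C ⊗[A] C)))).op).hom x' :
          (GmS S).over (Over.mk (str₃ C ≫ g)) ⟶ (GmS S).over (Over.mk (str₃ C ≫ g))) =
        MonoidAlgebra.mapRingHom Z φ.toRingHom (v₂ g C b) :=
    fun φ => ucoef_res (x' : (GmS S).over (Over.mk (str₂ C ≫ g)) ⟶ (GmS S).over (Over.mk (str₂ C ≫ g))) _
      φ.toRingHom rfl
  rw [← hres, ← hres, ← hres, v₃]
  refine (ucoef_add (a := str₃ C ≫ g) _ _).symm.trans (Eq.trans ?_ (ucoef_add (a := str₃ C ≫ g) _ _))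
  refine congrArg (fun z => ucoef (str₃ C ≫ g)
    (z : (GmS S).over (Over.mk (str₃ C ≫ g)) ⟶ (GmS S).over (Over.mk (str₃ C ≫ g)))) ?_
  show (P.map (cube A C).op).hom (D (X₀ (R := R₀) C) P 1 b) + _ = (_ : P.obj (op _)) + _
  rw [D_apply, Fin.sum_univ_three, map_add, map_add]
  simp only [Fin.val_zero, pow_zero, one_smul, Fin.val_one, pow_one, neg_smul, Fin.val_two, map_neg]
  rw [neg_one_sq, one_smul, map_comp_apply', map_comp_apply', map_comp_apply', cube_fc_zero, cube_fc_one,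
    cube_fc_two, ← map_comp_apply', ← map_comp_apply', ← map_comp_apply']
  abel

end Cochains

variable {ι : Type u} {R : ι → Type u} [∀ i, CommRing (R i)] [∀ i, HenselianLocalRing (R i)]
  {A : Type u} [CommRing A] [Algebra (∀ i, R i) A] [Module.Finite (∀ i, R i) A] [Module.Projective (∀ i, R i) A]

/-- A second Cech class that splits over every factor splits. -/
theorem exists_D_eq_of_parts {S : Scheme.{u}} (g : Spec (CommRingCat.of A) ⟶ S) (C : Type u) [CommRing C]
    [Algebra A C] [Module.Finite A C] [Module.Flat A C] [Algebra.FinitePresentation A C]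
    (huniq : ∀ i, ∀ P Q : Ideal C, P.IsMaximal → Q.IsMaximal →
      algebraMap A C (algebraMap (∀ i, R i) A (1 - del R i)) ∈ P →
      P.comap (algebraMap A C) = Q.comap (algebraMap A C) → P = Q)
    (c : (pr (dG g) (𝟙 _)).obj (op (pw (X₀ (R := CommRingCat.of A) C) 2)))
    (hc : ∀ i, ∃ b, D (X₀ (R := CommRingCat.of A) C) (pr (dG g) (𝟙 _)) 1 b =
      ((Functor.whiskerLeft (Over.map (𝟙 (Spec (CommRingCat.of A)))).op
        ((isClopenPair_pieces R A i).part (dG g)).hom).app _).hom c) :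
    ∃ b, D (X₀ (R := CommRingCat.of A) C) (pr (dG g) (𝟙 _)) 1 b = c := by
  choose b hb using hc
  let R₀ := CommRingCat.of A
  let P := pr (dG g) (𝟙 (Spec R₀))
  have huc : IsGL (v₃ g C c) := isGL_ucoef _
  obtain ⟨u, hu, heq⟩ := exists_glue_cochain (R := R) huniq huc (fun i => v₂ g C (b i)) (fun i => isGL_ucoef _)
    fun i => by
      have e : dl (C ⊗[A] (C ⊗[A] C)) (dA R A i) *
          v₃ g C (((Functor.whiskerLeft (Over.map (𝟙 (Spec R₀))).op
            ((isClopenPair_pieces R A i).part (dG g)).hom).app _).hom c) =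
          dl (C ⊗[A] (C ⊗[A] C)) (dA R A i) * v₃ g C c := by
        have hn : (P.map (cube A C).op).hom (((Functor.whiskerLeft (Over.map (𝟙 (Spec R₀))).op
              ((isClopenPair_pieces R A i).part (dG g)).hom).app _).hom c) =
            ((Functor.whiskerLeft (Over.map (𝟙 (Spec R₀))).op
              ((isClopenPair_pieces R A i).part (dG g)).hom).app _).hom ((P.map (cube A C).op).hom c) :=
          (ConcreteCategory.congr_hom ((Functor.whiskerLeft (Over.map (𝟙 (Spec R₀))).op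
              ((isClopenPair_pieces R A i).part (dG g)).hom).naturality (cube A C).op) c).symm
        rw [v₃, v₃, hn]
        exact dl_mul_ucoef_part R A g i (C ⊗[A] (C ⊗[A] C)) (str₃ C)
          ((Category.comp_id _).trans (sp_hom _ _)) _
      rw [← hb i] at e
      rw [← v₃_D, ← mul_assoc, e, mul_assoc, mul_comm (v₃ g C c)]
  let χ : (GmS S).over (Over.mk (str₂ C ≫ g)) ⟶ (GmS S).over (Over.mk (str₂ C ≫ g)) := ofU hu
  let χ' : P.obj (op (sp R₀ (Adeq.algOf R₀ (C ⊗[A] C)))) := χ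
  let b₀ := (P.map (inv (GmField79.sq (R := R₀) C)).op).hom χ'
  have hb₀ : v₂ g C b₀ = u := by
    refine Eq.trans ?_ (ucoef_ofU (a := str₂ C ≫ g) hu)
    refine congrArg (fun z => ucoef (str₂ C ≫ g)
      (z : (GmS S).over (Over.mk (str₂ C ≫ g)) ⟶ (GmS S).over (Over.mk (str₂ C ≫ g)))) ?_
    show (P.map (GmField79.sq (R := R₀) C).op).hom ((P.map (inv (GmField79.sq (R := R₀) C)).op).hom χ') = χ'
    rw [map_comp_apply', IsIso.hom_inv_id, op_id, P.map_id]
    rfl
  refine ⟨b₀, map_iso_injective (P := P) (cube A C) ?_⟩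
  refine ucoef_sub_eq (a := str₃ C ≫ g) ?_
  show v₃ g C _ = v₃ g C c
  have hunit : IsUnit u := by
    rw [← ucoef_ofU (a := str₂ C ≫ g) hu]
    refine IsUnit.of_mul_eq_one (ucoef (str₂ C ≫ g) (-χ)) ?_
    rw [← ucoef_add, show ofU (a := str₂ C ≫ g) hu + -χ = 0 from add_neg_cancel _, ucoef_zero]
  refine (hunit.map (MonoidAlgebra.mapRingHom Z (Algebra.TensorProduct.map (AlgHom.id A C)
    Algebra.TensorProduct.includeRight : C ⊗[A] C →ₐ[A] C ⊗[A] (C ⊗[A] C)).toRingHom)).mul_left_injective ?_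
  show _ * _ = _ * _
  conv_lhs => rw [← hb₀]
  rw [v₃_D, hb₀, heq]
  exact mul_comm _ (v₃ g C c)

/-- A second cohomology class with values in the dual of the multiplicative group that vanishes over every factor
vanishes. -/
theorem eq_zero_of_pieces {S : Scheme.{u}} (g : Spec (CommRingCat.of A) ⟶ S)
    (x : BigSite.H Scheme.fppfPrecoverage (Spec (CommRingCat.of A)) (dG g) 2)
    (hx : ∀ i, HRes.pull Scheme.fppfPrecoverage (inP R A i) (dG g) 2 x = 0) : x = 0 := by
  let O := ∀ i, R i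
  let R₀ := CommRingCat.of A
  let a := 𝟙 (Spec R₀)
  let top : Over (Spec R₀) := Over.mk (𝟙 (Spec R₀))
  let P₁ := Classical.arbitrary (InjectivePresentation (dG g))
  let E₁ := P₁.shortComplex
  have hE₁ : E₁.ShortExact := P₁.shortExact_shortComplex
  haveI : Injective E₁.X₂ := P₁.injective
  obtain ⟨y, rfl⟩ : ∃ y : BigSite.H Scheme.fppfPrecoverage _ E₁.X₃ 1, y.comp hE₁.extClass rfl = x :=
    Ext.covariant_sequence_exact₁ _ hE₁ x (Ext.eq_zero_of_injective _) rfl
  suffices hy : y = 0 by rw [hy, Ext.zero_comp]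
  have hy0 : ∀ i, HRes.pull Scheme.fppfPrecoverage (inP R A i) E₁.X₃ 1 y = 0 := fun i =>
    pull_eq_zero_of_delta (inP R A i) hE₁ 0 y (hx i)
  clear hx
  let P₂ := Classical.arbitrary (InjectivePresentation E₁.X₃)
  let E₂ := P₂.shortComplex
  have hE₂ : E₂.ShortExact := P₂.shortExact_shortComplex
  haveI : Injective E₂.X₂ := P₂.injective
  obtain ⟨s₀, rfl⟩ : ∃ s₀ : BigSite.H Scheme.fppfPrecoverage _ E₂.X₃ 0, s₀.comp hE₂.extClass rfl = y :=
    Ext.covariant_sequence_exact₁ _ hE₂ y (Ext.eq_zero_of_injective _) rfl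
  let s : E₂.X₃.obj.obj (op top) := Sheaf.H.equiv₀ E₂.X₃ Over.mkIdTerminal s₀
  -- it suffices to lift the section
  suffices hlift : ∃ z, (E₂.g.hom.app (op top)).hom z = s by
    obtain ⟨z, hz⟩ := hlift
    have hs : s₀ = Sheaf.H.map E₂.g 0 ((Sheaf.H.equiv₀ E₂.X₂ Over.mkIdTerminal).symm z) := by
      refine (Sheaf.H.equiv₀ E₂.X₃ Over.mkIdTerminal).injective ?_
      rw [← Sheaf.H.equiv₀_naturality, AddEquiv.apply_symm_apply]
      exact hz.symm
    rw [hs, Sheaf.H.map_apply, Ext.comp_assoc_of_second_deg_zero, hE₂.comp_extClass, Ext.comp_zero]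
  -- lifts over the pieces, extended by zero
  have hz : ∀ i, ∃ z : E₂.X₂.obj.obj (op top), (E₂.g.hom.app (op top)).hom z =
      (((isClopenPair_pieces R A i).part E₂.X₃).hom.app (op top)).hom s := by
    intro i
    obtain ⟨z, hz⟩ := exists_lift_of_pull_delta (inP R A i) hE₂ s₀ (hy0 i)
    let w : pc (inP R A i) top ⟶ (Over.map (inP R A i)).obj (Over.mk (𝟙 _)) :=
      Over.homMk (pullback.snd _ _) (by
        show pullback.snd _ _ ≫ 𝟙 _ ≫ inP R A i = pullback.fst _ _ ≫ 𝟙 _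
        rw [Category.id_comp]
        exact (pullback.condition (f := top.hom) (g := inP R A i)).symm)
    obtain ⟨z', hz'₁, hz'₂⟩ := (isClopenPair_pieces R A i).exists_extend E₂.X₂ (rA E₂.X₂ w z)
    have hn : ∀ {V : Over (Spec R₀)} (m : V ⟶ top), rA E₂.X₃ m ((E₂.g.hom.app (op top)).hom z') =
        (E₂.g.hom.app (op V)).hom (rA E₂.X₂ m z') := fun m =>
      (ConcreteCategory.congr_hom (E₂.g.hom.naturality m.op) z').symm
    refine ⟨z', (isClopenPair_pieces R A i).ext E₂.X₃ ?_ ?_⟩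
    · rw [hn, hz'₁, IsClopenPair.part_left]
      refine (ConcreteCategory.congr_hom (E₂.g.hom.naturality w.op) z).trans ?_
      refine (congrArg (rA E₂.X₃ w) hz).trans ?_
      rw [rA_comp]
      exact congrArg (fun m => rA E₂.X₃ m s) (Over.mkIdTerminal.hom_ext _ _)
    · rw [hn, hz'₂, map_zero, IsClopenPair.part_right]
  choose zp hzp using hz
  clear hy0
  -- a good covering on which the section lifts
  haveI := hE₂.epi_g
  obtain ⟨B, iB, iA, iff', hlfp, t', ht'⟩ := exists_lift_single a E₂.g s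
  letI : Algebra A B := iA
  haveI : Module.FaithfullyFlat A B := iff'
  haveI : Algebra.FinitePresentation A B :=
    RingHom.finitePresentation_algebraMap.1 ((HasRingHomProperty.Spec_iff (P := @LocallyOfFinitePresentation)).1 hlfp)
  obtain ⟨C, _, _, hfin, hff, hfp, huniq, ⟨f⟩⟩ := exists_refinement_pi (R := R) A B
  haveI : Module.FaithfullyFlat R₀ C := hff
  haveI : LocallyOfFinitePresentation (Spec.map (CommRingCat.ofHom (algebraMap R₀ C))) :=
    (HasRingHomProperty.Spec_iff (P := @LocallyOfFinitePresentation)).2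
      (RingHom.finitePresentation_algebraMap.2 hfp)
  haveI : Module.FinitePresentation A C := Module.FinitePresentation.of_finite_of_finitePresentation A C
  haveI : Module.Projective A C := Module.Flat.projective_of_finitePresentation
  haveI : Module.FinitePresentation O A := Module.finitePresentation_of_projective O A
  letI : Algebra O C := ((algebraMap A C).comp (algebraMap O A)).toAlgebra
  haveI : IsScalarTower O A C := IsScalarTower.of_algebraMap_eq fun _ => rfl
  haveI : Module.Finite O C := Module.Finite.trans A C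
  haveI : Module.Flat O C := Module.Flat.trans O A C
  haveI : Module.FinitePresentation O C := Module.FinitePresentation.trans O C A
  haveI : Module.Projective O C := Module.Flat.projective_of_finitePresentation
  haveI : Module.Finite O (C ⊗[A] C) := Module.Finite.trans A (C ⊗[A] C)
  haveI : Module.Flat O (C ⊗[A] C) := Module.Flat.trans O A (C ⊗[A] C)
  haveI : Module.FinitePresentation A (C ⊗[A] C) := Module.finitePresentation_of_projective A (C ⊗[A] C)
  haveI : Module.FinitePresentation O (C ⊗[A] C) := Module.FinitePresentation.trans O (C ⊗[A] C) A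
  haveI : Module.Projective O (C ⊗[A] C) := Module.Flat.projective_of_finitePresentation
  let cB : cov a C ⟶ cov a B := (Over.map a).map (spMap R₀ (CommAlgCat.ofHom f :
    Adeq.algOf R₀ B ⟶ Adeq.algOf R₀ C))
  have hcB : cB ≫ covMap a B = covMap a C :=
    Over.OverMorphism.ext (Over.w (spMap R₀ (CommAlgCat.ofHom f : Adeq.algOf R₀ B ⟶ Adeq.algOf R₀ C)))
  let X := X₀ (R := R₀) C
  let f₁ : pr E₁.X₁ a ⟶ pr E₁.X₂ a := Functor.whiskerLeft (Over.map a).op E₁.f.hom
  let g₁ : pr E₁.X₂ a ⟶ pr E₁.X₃ a := Functor.whiskerLeft (Over.map a).op E₁.g.hom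
  let f₂ : pr E₂.X₁ a ⟶ pr E₂.X₂ a := Functor.whiskerLeft (Over.map a).op E₂.f.hom
  let g₂ : pr E₂.X₂ a ⟶ pr E₂.X₃ a := Functor.whiskerLeft (Over.map a).op E₂.g.hom
  have hinj₁ : ∀ U, Function.Injective (f₁.app (op U)).hom := fun U => (secA_exact E₁ hE₁ ((Over.map a).obj U)).1
  have hex₁ : ∀ U w, (g₁.app (op U)).hom w = 0 ↔ ∃ v, (f₁.app (op U)).hom v = w :=
    fun U => (secA_exact E₁ hE₁ ((Over.map a).obj U)).2
  have hinj₂ : ∀ U, Function.Injective (f₂.app (op U)).hom := fun U => (secA_exact E₂ hE₂ ((Over.map a).obj U)).1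
  have hex₂ : ∀ U w, (g₂.app (op U)).hom w = 0 ↔ ∃ v, (f₂.app (op U)).hom v = w :=
    fun U => (secA_exact E₂ hE₂ ((Over.map a).obj U)).2
  let π₀ := Pi.π (fun _ : Fin 1 => X) 0
  let σ₁ : X ⟶ pw X 0 := Pi.lift fun _ => 𝟙 _
  have hσ : σ₁ ≫ π₀ = 𝟙 _ := Pi.lift_π _ _
  haveI : IsIso σ₁ := ⟨π₀, hσ, Pi.hom_ext _ _ fun k => by
    obtain rfl : k = 0 := Fin.eq_zero k
    rw [Category.assoc, hσ, Category.comp_id, Category.id_comp]⟩
  have hsurj₀ : Function.Surjective (g₁.app (op (pw X 0))).hom :=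
    surjective_transfer E₁.g ((Over.map a).map σ₁) (Functor.map_isIso (Over.map a) σ₁)
      (surjective_dualGm_at R C ((sp R₀ (Adeq.algOf R₀ C)).hom ≫ a) g E₁ hE₁ rfl)
  have hsurj₁ : Function.Surjective (g₁.app (op (pw X 1))).hom :=
    surjective_transfer E₁.g ((Over.map a).map (GmField79.sq (R := R₀) C)) (Functor.map_isIso (Over.map a) _)
      (surjective_dualGm_at R (C ⊗[A] C) ((sp R₀ (Adeq.algOf R₀ (C ⊗[A] C))).hom ≫ a) g E₁ hE₁ rfl)
  let r₀ := (Over.map a).map π₀ ≫ covMap a C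
  let t₀ : (pr E₂.X₂ a).obj (op (pw X 0)) := rA E₂.X₂ ((Over.map a).map π₀) (rA E₂.X₂ cB t')
  have ht₀ : (g₂.app _).hom t₀ = rA E₂.X₃ r₀ s := by
    refine (ConcreteCategory.congr_hom (E₂.g.hom.naturality ((Over.map a).map π₀).op) _).trans ?_
    refine (congrArg (rA E₂.X₃ _) (ConcreteCategory.congr_hom (E₂.g.hom.naturality cB.op) t')).trans ?_
    refine (congrArg (fun w => rA E₂.X₃ ((Over.map a).map π₀) (rA E₂.X₃ cB w)) ht').trans ?_
    rw [rA_comp, rA_comp, Category.assoc, hcB]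
  obtain ⟨q, hq⟩ := (hex₂ _ (D X (pr E₂.X₂ a) 0 t₀)).1 (by rw [← D_nat, ht₀, D_restr])
  have hDq : D X (pr E₂.X₁ a) 1 q = 0 := hinj₂ _ (by rw [← D_nat, hq, D_D, map_zero])
  obtain ⟨j, hj⟩ := hsurj₁ q
  obtain ⟨c, hc⟩ := (hex₁ _ (D X (pr E₁.X₂ a) 1 j)).1 (by rw [← D_nat, hj]; exact hDq)
  -- the class splits over each piece
  have hparts : ∀ i, ∃ b, D X (pr (dG g) a) 1 b =
      ((Functor.whiskerLeft (Over.map a).op ((isClopenPair_pieces R A i).part (dG g)).hom).app _).hom c := by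
    intro i
    let h := isClopenPair_pieces R A i
    let PP : ∀ M : AbT (Spec R₀), pr M a ⟶ pr M a := fun M => Functor.whiskerLeft (Over.map a).op (h.part M).hom
    have hPn : ∀ {M N : AbT (Spec R₀)} (φ : M ⟶ N) (U : Over (Spec R₀)) (w : (pr M a).obj (op U)),
        ((PP N).app (op U)).hom (((Functor.whiskerLeft (Over.map a).op φ.hom).app (op U)).hom w) =
          ((Functor.whiskerLeft (Over.map a).op φ.hom).app (op U)).hom (((PP M).app (op U)).hom w) :=
      fun φ U w => h.part_natural φ w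
    have hg2 : (g₂.app _).hom (((PP E₂.X₂).app _).hom t₀ - rA E₂.X₂ r₀ (zp i)) = 0 := by
      rw [map_sub, sub_eq_zero]
      refine (hPn E₂.g _ t₀).symm.trans ?_
      refine (congrArg ((PP E₂.X₃).app _).hom ht₀).trans ?_
      refine (ConcreteCategory.congr_hom ((h.part E₂.X₃).hom.naturality r₀.op) s).trans ?_
      refine (congrArg (rA E₂.X₃ r₀) (hzp i).symm).trans ?_
      exact (ConcreteCategory.congr_hom (E₂.g.hom.naturality r₀.op) (zp i)).symm
    obtain ⟨p, hp⟩ := (hex₂ _ _).1 hg2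
    have hDp : D X (pr E₂.X₁ a) 0 p = ((PP E₂.X₁).app _).hom q := hinj₂ _ (by
      rw [← D_nat, hp, map_sub, D_restr, sub_zero, D_nat, ← hq]
      exact hPn E₂.f _ q)
    obtain ⟨j', hj'⟩ := hsurj₀ p
    obtain ⟨b, hb⟩ := (hex₁ _ (((PP E₁.X₂).app _).hom j - D X (pr E₁.X₂ a) 0 j')).1 (by
      rw [map_sub, ← D_nat, hj', hDp, sub_eq_zero]
      refine (hPn E₁.g _ j).symm.trans ?_
      exact congrArg ((PP E₁.X₃).app _).hom hj)
    refine ⟨b, hinj₁ _ ?_⟩
    rw [← D_nat, hb, map_sub, D_D, sub_zero, D_nat, ← hc]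
    exact hPn E₁.f _ c
  obtain ⟨b, hb⟩ := exists_D_eq_of_parts g C huniq c hparts
  -- so the section lifts
  obtain ⟨j'', hj''⟩ := acy_injective E₁.X₂ R₀ a C 0 (j - (f₁.app _).hom b) (by
    show D X (pr E₁.X₂ a) 1 (j - (f₁.app _).hom b) = 0
    rw [map_sub, sub_eq_zero, D_nat, ← hc]
    exact congrArg (f₁.app _).hom hb.symm)
  obtain ⟨z, hzz⟩ := glue_cov E₂.X₂ a C (t₀ - (f₂.app _).hom ((g₁.app _).hom j'')) (by
    rw [map_sub, D_nat, D_nat, hj'', map_sub, (hex₁ _ _).2 ⟨b, rfl⟩, sub_zero, sub_eq_zero, ← hq]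
    exact congrArg (f₂.app _).hom hj.symm)
  refine ⟨z, ext_cov E₂.X₃ a C _ _ ?_⟩
  have h := congrArg (g₂.app (op (pw X 0))).hom hzz
  rw [map_sub, (hex₂ _ _).2 ⟨_, rfl⟩, sub_zero, ht₀] at h
  have hn : rA E₂.X₃ r₀ ((E₂.g.hom.app _).hom z) =
      (E₂.g.hom.app (op ((Over.map a).obj (pw X 0)))).hom (rA E₂.X₂ r₀ z) :=
    (ConcreteCategory.congr_hom (E₂.g.hom.naturality _) z).symm
  have h' := congrArg (rA E₂.X₃ ((Over.map a).map σ₁)) (hn.trans h)
  rw [rA_comp, rA_comp, ← Category.assoc, ← Functor.map_comp, hσ, CategoryTheory.Functor.map_id,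
    Category.id_comp] at h'
  exact h'

end Groth.Agent.DualOv79
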