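import Groth.Agent.DixBrauer.HofInj
import Groth.Agent.DualOv79.EpiPush
import Groth.Agent.EtMVLib.BigPull

/-!
# Second cohomology of a direct image along a finite étale morphism, composites of restrictions
-/

set_option autoImplicit false
set_option linter.style.haveILetI false

universe w v v' u u'

open CategoryTheory CategoryTheory.Limits CategoryTheory.Abelian AlgebraicGeometry Opposite

namespace Groth.Agent.DualOv79

open Groth.Agent.BigSiteLib

section

variable {A : Type u} [Category.{v} A] [Abelian A] [EnoughInjectives A] [HasExt.{w} A]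
  {B : Type u'} [Category.{v'} B] [Abelian B] [HasExt.{w} B]
  {L : B ⥤ A} {R : A ⥤ B} [L.Additive] [R.Additive] [PreservesFiniteLimits L] [PreservesFiniteColimits L]
  (adj : L ⊣ R) {ZA : A} {ZB : B} (i : ZA ⟶ L.obj ZB)

include adj in
/-- Degree two is injective when the direct image is exact. -/
theorem hof_injective_two' (hi : IsIso i) (F : A) (hR : ∀ S : ShortComplex A, S.ShortExact → (S.map R).ShortExact)
    (x : Ext.{w} ZB (R.obj F) 2) (hx : HofBij.hof adj i F 2 x = 0) : x = 0 := by
  haveI : R.IsRightAdjoint := adj.isRightAdjoint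
  haveI : PreservesFiniteLimits R := inferInstance
  let Q := Classical.arbitrary (InjectivePresentation F)
  have hS := Q.shortExact_shortComplex
  let S := Q.shortComplex
  haveI : Injective S.X₂ := Q.injective
  haveI : L.PreservesMonomorphisms := inferInstance
  haveI : Injective (R.obj S.X₂) := Injective.injective_of_adjoint adj _
  have hS' : (S.map R).ShortExact := hR S hS
  let e' : Ext.{w} (R.obj S.X₃) (R.obj S.X₁) 1 := hS'.extClass
  have hn : (e'.mapExactFunctor L).comp (Ext.mk₀ (adj.counit.app S.X₁)) (add_zero 1) =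
      (Ext.mk₀ (adj.counit.app S.X₃)).comp hS.extClass (zero_add 1) :=
    (congrArg (fun t => Ext.comp t (Ext.mk₀ (adj.counit.app S.X₁)) (add_zero 1))
      (Ext.mapExactFunctor_extClass L hS')).trans
      (ShortComplex.ShortExact.extClass_naturality (hS'.map_of_exact L) hS
        ({ τ₁ := adj.counit.app S.X₁, τ₂ := adj.counit.app S.X₂, τ₃ := adj.counit.app S.X₃
           comm₁₂ := (adj.counit.naturality S.f).symm, comm₂₃ := (adj.counit.naturality S.g).symm } :
          (S.map R).map L ⟶ S))
  obtain ⟨y, hy⟩ : ∃ y : Ext.{w} ZB (R.obj S.X₃) 1, y.comp e' rfl = x :=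
    haveI : Injective (S.map R).X₂ := ‹Injective (R.obj S.X₂)›
    Ext.covariant_sequence_exact₁ ZB hS' x (Ext.eq_zero_of_injective _) rfl
  subst hy
  have hx' : (HofBij.hof adj i S.X₃ 1 y).comp hS.extClass rfl = 0 :=
    (HofBij.hof_comp adj i 1 y e' hS.extClass hn).symm.trans hx
  obtain ⟨z, hz⟩ := Ext.covariant_sequence_exact₃ ZA hS (HofBij.hof adj i S.X₃ 1 y) (n₁ := 2) rfl hx'
  rw [Ext.eq_zero_of_injective z, Ext.zero_comp] at hz
  rw [DixBrauer.HofInj.hof_injective_one adj i hi S.X₃ y hz.symm, Ext.zero_comp]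

end

variable {X X' : Scheme.{u}} (f : X' ⟶ X) [IsFinite f] [Etale f]

/-- Direct image along a finite étale morphism is exact. -/
theorem shortExact_pushS {S : ShortComplex (BigSite.Ab Scheme.fppfPrecoverage X')} (hS : S.ShortExact) :
    (S.map (BigSite.pushBig Scheme.fppfPrecoverage f AddCommGrpCat.{u + 1})).ShortExact := by
  let R := BigSite.pushBig Scheme.fppfPrecoverage f AddCommGrpCat.{u + 1}
  haveI : R.IsRightAdjoint := (BigSite.bigAdj Scheme.fppfPrecoverage f AddCommGrpCat.{u + 1}).isRightAdjoint
  haveI : PreservesFiniteLimits R := inferInstance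
  have hR' : (S.map R).Exact ∧ Mono (R.map S.f) := by
    have tf := (Functor.preservesFiniteLimits_tfae R).out 3 0
    exact tf.1 (show PreservesFiniteLimits R from inferInstance) S hS
  haveI := hS.epi_g
  exact { exact := hR'.1, mono_f := hR'.2, epi_g := epi_pushS f S.g }

theorem hMap_iso_injective {Y : Scheme.{u}} {F G : BigSite.Ab Scheme.fppfPrecoverage Y} (e : F ≅ G) {n : ℕ}
    {x : BigSite.H Scheme.fppfPrecoverage Y F n} (h : Sheaf.H.map e.hom n x = 0) : x = 0 := by
  have hx : Sheaf.H.map e.inv n (Sheaf.H.map e.hom n x) = x := by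
    rw [← Sheaf.H.map_comp_apply, e.hom_inv_id, Sheaf.H.map_id_apply]
  rw [← hx, h, map_zero]

/-- Restrictions along a composite vanish exactly if the successive restrictions do. -/
theorem pull_comp_eq_zero_iff {S T T' : Scheme.{u}} (p : T ⟶ S) (q : T' ⟶ T)
    (F : BigSite.Ab Scheme.fppfPrecoverage S) (n : ℕ) (x : BigSite.H Scheme.fppfPrecoverage S F n) :
    HRes.pull Scheme.fppfPrecoverage (q ≫ p) F n x = 0 ↔
      HRes.pull Scheme.fppfPrecoverage q _ n (HRes.pull Scheme.fppfPrecoverage p F n x) = 0 := by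
  rw [EtMVLib.pull_comp]
  exact ⟨fun h => hMap_iso_injective
    ((Scheme.fppfPrecoverage.toGrothendieck.overMapPullbackComp AddCommGrpCat.{u + 1} q p).app F) h,
    fun h => by rw [h, map_zero]⟩

/-- A second class of a finite étale direct image dies if its restriction upstairs dies. -/
theorem eq_zero_of_two (G : BigSite.Ab Scheme.fppfPrecoverage X')
    (x : BigSite.H Scheme.fppfPrecoverage X ((BigSite.pushBig Scheme.fppfPrecoverage f AddCommGrpCat.{u + 1}).obj G) 2)
    (h : Sheaf.H.map ((BigSite.bigAdj Scheme.fppfPrecoverage f AddCommGrpCat.{u + 1}).counit.app G) 2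
      (HRes.pull Scheme.fppfPrecoverage f _ 2 x) = 0) : x = 0 := by
  haveI : EnoughInjectives (BigSite.Ab Scheme.fppfPrecoverage X') := inferInstance
  exact hof_injective_two' (BigSite.bigAdj Scheme.fppfPrecoverage f AddCommGrpCat.{u + 1})
    (HRes.pullConst Scheme.fppfPrecoverage f (AddCommGrpCat.of (ULift.{u + 1} ℤ))).inv inferInstance G
    (fun _ hS => shortExact_pushS f hS) x h

end Groth.Agent.DualOv79
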