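import Groth.Agent.DualOv79.PiTwo
import Groth.Agent.DualOv79.PushTwo
import Groth.Agent.DualNorm79.Main
import Groth.Agent.GmNorm.Sheaf
import Groth.Agent.BigSiteLib.BC

/-!
# Second cohomology of the dual of a Weil restriction over a product of henselian local rings
-/

set_option autoImplicit false

universe u

open CategoryTheory AlgebraicGeometry

namespace Groth.Agent.DualOv79

/-- A second cohomology class with values in the dual of a finite etale Weil restriction of the multiplicative group
over a product of henselian local rings vanishes if it vanishes over every factor. -/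
theorem eq_zero_of_factors {ι : Type u} (R : ι → Type u) [∀ i, CommRing (R i)] [∀ i, HenselianLocalRing (R i)]
    (R₀ O' : Type u) [CommRing R₀] [CommRing O'] [Algebra R₀ O'] [Algebra R₀ (∀ i, R i)]
    [IsFinite (Spec.map (CommRingCat.ofHom (algebraMap R₀ O')))]
    [Etale (Spec.map (CommRingCat.ofHom (algebraMap R₀ O')))]
    (x : BigSite.H Scheme.fppfPrecoverage (Spec (CommRingCat.of (∀ i, R i)))
      ((BigSite.pullBig Scheme.fppfPrecoverage (Spec.map (CommRingCat.ofHom (algebraMap R₀ (∀ i, R i))))
        AddCommGrpCat.{u + 1}).obj (CGrpSh2.dualSh Scheme.fppfPrecoverage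
          (CGrpSh3.pushGm Scheme.fppfPrecoverage (Spec.map (CommRingCat.ofHom (algebraMap R₀ O')))))) 2)
    (hx : ∀ i, HRes.pull Scheme.fppfPrecoverage (Spec.map (CommRingCat.ofHom (Pi.evalRingHom R i))) _ 2 x = 0) :
    x = 0 := by
  haveI : Module.Finite R₀ O' :=
    RingHom.finite_algebraMap.1 ((IsFinite.SpecMap_iff (CommRingCat.ofHom (algebraMap R₀ O'))).1 inferInstance)
  haveI : Algebra.Etale R₀ O' :=
    RingHom.etale_algebraMap.1 ((HasRingHomProperty.Spec_iff (P := @Etale) (φ := CommRingCat.ofHom (algebraMap R₀ O'))).1 inferInstance)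
  haveI : Module.FinitePresentation R₀ O' :=
    Module.FinitePresentation.of_finite_of_finitePresentation _ _
  haveI : Module.Projective R₀ O' := Module.Flat.projective_of_finitePresentation
  set f := Spec.map (CommRingCat.ofHom (algebraMap R₀ O'))
  let A := TensorProduct R₀ (∀ i, R i) O'
  let f' : Spec (CommRingCat.of A) ⟶ Spec (CommRingCat.of (∀ i, R i)) :=
    Spec.map (CommRingCat.ofHom Algebra.TensorProduct.includeLeftRingHom)
  let g' : Spec (CommRingCat.of A) ⟶ Spec (CommRingCat.of O') :=
    Spec.map (CommRingCat.ofHom Algebra.TensorProduct.includeRight.toRingHom)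
  let g : Spec (CommRingCat.of (∀ i, R i)) ⟶ Spec (CommRingCat.of R₀) :=
    Spec.map (CommRingCat.ofHom (algebraMap R₀ (∀ i, R i)))
  have hsq : IsPullback g' f' f g :=
    (isPullback_SpecMap_of_isPushout _ _ _ _
      (CommRingCat.isPushout_tensorProduct R₀ (∀ i, R i) O')).flip
  haveI := Groth.Agent.DualNorm79.isIso_dualNormMap (f := f) (CGrpSh2.Gm Scheme.fppfPrecoverage (Spec (CommRingCat.of O')))
    (Groth.Agent.GmNorm.normMap f) (Groth.Agent.GmNorm.isNormMap_normMap f)
  let φ := CGrpSh3.dualNormMap Scheme.fppfPrecoverage f (Groth.Agent.GmNorm.normMap f)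
    (CGrpSh2.Gm Scheme.fppfPrecoverage (Spec (CommRingCat.of O')))
  let e := (BigSite.pullBig Scheme.fppfPrecoverage g AddCommGrpCat.{u + 1}).mapIso (asIso φ).symm ≪≫
    (Groth.Agent.BigSiteLib.pushPullIso hsq Scheme.fppfPrecoverage AddCommGrpCat.{u + 1}).app _
  haveI : IsFinite f' := MorphismProperty.of_isPullback hsq inferInstance
  haveI : Etale f' := MorphismProperty.of_isPullback hsq inferInstance
  refine hMap_iso_injective e ?_
  refine eq_zero_of_two f' _ _ ?_
  refine eq_zero_of_pieces (R := R) (A := A) g' _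
    fun w => ?_
  rw [HRes.pull_map]
  refine (congrArg (Sheaf.H.map _ 2) ?_).trans (map_zero _)
  refine (pull_comp_eq_zero_iff f' (inP R A w) _ 2 _).1 ?_
  -- the piece maps to the factor
  let δ := dA R A w
  let q : (∀ i, R i) →+* A ⧸ Ideal.span {1 - δ} :=
    (Ideal.Quotient.mk _).comp (algebraMap (∀ i, R i) A)
  have hker : RingHom.ker (Pi.evalRingHom R w) ≤ RingHom.ker q := fun y hy => by
    have hy' : (y w : R w) = 0 := hy
    have hy'' : y = y * (1 - del
        R w) := by
      funext j
      rcases eq_or_ne j w with rfl | h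
      · simp [del, hy']
      · simp [del, h]
    rw [RingHom.mem_ker, hy'']
    show Ideal.Quotient.mk _ (algebraMap (∀ i, R i) A _) = 0
    rw [Ideal.Quotient.eq_zero_iff_mem, map_mul, map_sub, map_one]
    exact Ideal.mul_mem_left _ _ (Ideal.mem_span_singleton_self _)
  let h : R w →+* A ⧸ Ideal.span {1 - δ} :=
    RingHom.liftOfSurjective (Pi.evalRingHom R w) (fun r => by
      classical
      exact ⟨Pi.single w r, Pi.single_eq_same w r⟩) ⟨q, hker⟩
  have hh : h.comp (Pi.evalRingHom R w) = q := RingHom.liftOfRightInverse_comp _ _ _ ⟨q, hker⟩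
  have hfac : inP R A w ≫ f' =
      Spec.map (CommRingCat.ofHom h) ≫ Spec.map (CommRingCat.ofHom (Pi.evalRingHom R w)) := by
    show Spec.map _ ≫ Spec.map _ = Spec.map _ ≫ Spec.map _
    rw [← Spec.map_comp, ← Spec.map_comp]
    exact congrArg Spec.map (CommRingCat.hom_ext hh.symm)
  generalize inP R A w ≫ f' = m at hfac
  subst hfac
  rw [pull_comp_eq_zero_iff]
  refine (congrArg (HRes.pull _ _ _ 2) ?_).trans (map_zero _)
  rw [HRes.pull_map]
  refine (congrArg (Sheaf.H.map _ 2) ?_).trans (map_zero _)
  exact hx w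

end Groth.Agent.DualOv79
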